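import Cfsg.Agent.H613.Contrib
import Cfsg.Agent.Characters.Galois
import Mathlib.RingTheory.Polynomial.Cyclotomic.Eval
import Mathlib.Algebra.Polynomial.Taylor
import Mathlib.Analysis.MeanInequalities
import Cfsg.Agent.H624.MajVal
import Cfsg.Agent.Blocks.GaloisConj
set_option linter.all false

-- part: H624/TTwo
section
/-!
# The Galois average for `2`-power roots of unity

`ζ` a primitive `2 ^ (k + 1)`-th root of unity, `n = 2 ^ k`, `a : ℕ → ℤ`,
`valA ζ n a j = ∑_{e < n} a e ζ^(j e)`; the Galois conjugates of `valA ζ n a 1` are the values at the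
odd numbers `j = 2 m + 1`, `m < n`, and their average is `a 0`.

* `sum_valA`: `∑_{m < n} valA (2 m + 1) = n * a 0`;
* `pow_dvd_of_memLocalRing`: if `valA 1 / 2 ^ i` is a local integer then `2 ^ i ∣ a e` for all `e < n`;
* `exists_avg`: if moreover `valA 1` is real then `a 0 = 2 ^ i * b` with `valA 1 / 2 ^ i ≡ b`;
* `le_sum_norm_sq`: if moreover `valA 1 ≠ 0` then `4 ^ i * n ≤ ∑_{m < n} ‖valA (2 m + 1)‖ ^ 2`;
* `exists_coords`: sums `∑ c_i w_i ^ j` with `w_i ^ (2 ^ (k + 1)) = 1` are of this form for odd `j`.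
-/

set_option autoImplicit false

open scoped ComplexConjugate
open Cfsg Polynomial

namespace Cfsg.Agent.H624.TTwo

open Cfsg.Agent.Blocks.Local

/-- The value at `ζ ^ j` of the polynomial with coefficients `a e`, `e < n`. -/
noncomputable def valA (ζ : ℂ) (n : ℕ) (a : ℕ → ℤ) (j : ℕ) : ℂ :=
  ∑ e ∈ Finset.range n, (a e : ℂ) * ζ ^ (j * e)

theorem valA_def (ζ : ℂ) (n : ℕ) (a : ℕ → ℤ) (j : ℕ) :
    valA ζ n a j = ∑ e ∈ Finset.range n, (a e : ℂ) * ζ ^ (j * e) := rfl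

theorem valA_add (ζ : ℂ) (n : ℕ) (a b : ℕ → ℤ) (j : ℕ) :
    valA ζ n (fun e => a e + b e) j = valA ζ n a j + valA ζ n b j := by
  rw [valA_def, valA_def, valA_def, ← Finset.sum_add_distrib]
  refine Finset.sum_congr rfl fun e _ => ?_
  push_cast
  ring

theorem valA_mul (ζ : ℂ) (n : ℕ) (c : ℤ) (a : ℕ → ℤ) (j : ℕ) :
    valA ζ n (fun e => c * a e) j = c * valA ζ n a j := by
  rw [valA_def, valA_def, Finset.mul_sum]
  refine Finset.sum_congr rfl fun e _ => ?_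
  push_cast
  ring

theorem valA_congr (ζ : ℂ) (n : ℕ) {a b : ℕ → ℤ} (h : ∀ e < n, a e = b e) (j : ℕ) :
    valA ζ n a j = valA ζ n b j := by
  rw [valA_def, valA_def]
  refine Finset.sum_congr rfl fun e he => ?_
  rw [h e (Finset.mem_range.1 he)]

variable {M : Ideal AlgInt} {k : ℕ} {ζ : ℂ}

/-- `ζ ^ n = -1`. -/
theorem pow_half (hζ : IsPrimitiveRoot ζ (2 ^ (k + 1))) : ζ ^ (2 ^ k) = -1 := by
  have h1 : ζ ^ (2 ^ k) * ζ ^ (2 ^ k) = 1 := by
    rw [← pow_add, ← two_mul, ← pow_succ', hζ.pow_eq_one]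
  rcases mul_self_eq_one_iff.1 h1 with h | h
  · exfalso
    have h2 := (hζ.pow_eq_one_iff_dvd (2 ^ k)).1 h
    have h3 := Nat.le_of_dvd (pow_pos (by norm_num) k) h2
    rw [pow_succ] at h3
    have := pow_pos (show 0 < 2 by norm_num) k
    omega
  · exact h

theorem isIntegral_root (hζ : IsPrimitiveRoot ζ (2 ^ (k + 1))) : IsIntegral ℤ ζ := by
  refine IsIntegral.of_pow (pow_pos (by norm_num : 0 < 2) (k + 1)) ?_
  rw [hζ.pow_eq_one]
  exact isIntegral_one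

/-- `(ζ - 1) ^ n` divides `2`. -/
theorem exists_mul_eq_two (hζ : IsPrimitiveRoot ζ (2 ^ (k + 1))) :
    ∃ v : ℂ, IsIntegral ℤ v ∧ (ζ - 1) ^ (2 ^ k) * v = 2 := by
  have h1 : ∀ μ ∈ primitiveRoots (2 ^ (k + 1)) ℂ, ∃ w : ℂ, IsIntegral ℤ w ∧ 1 - μ = (ζ - 1) * w := by
    intro μ hμ
    rw [mem_primitiveRoots (pow_pos (by norm_num) _)] at hμ
    obtain ⟨j, -, rfl⟩ := hζ.eq_pow_of_pow_eq_one hμ.pow_eq_one
    refine ⟨-∑ i ∈ Finset.range j, ζ ^ i, ?_, ?_⟩
    · exact (IsIntegral.sum _ fun i _ => (isIntegral_root hζ).pow i).neg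
    · have := geom_sum_mul ζ j
      linear_combination this
  choose! w hw1 hw2 using h1
  refine ⟨∏ μ ∈ primitiveRoots (2 ^ (k + 1)) ℂ, w μ, IsIntegral.prod _ fun μ hμ => hw1 μ hμ, ?_⟩
  have hcard : (primitiveRoots (2 ^ (k + 1)) ℂ).card = 2 ^ k := by
    rw [hζ.card_primitiveRoots, Nat.totient_prime_pow Nat.prime_two (Nat.succ_pos k)]
    simp
  have h2 : (ζ - 1) ^ (2 ^ k) * ∏ μ ∈ primitiveRoots (2 ^ (k + 1)) ℂ, w μ =
      ∏ μ ∈ primitiveRoots (2 ^ (k + 1)) ℂ, (1 - μ) := by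
    rw [← hcard, ← Finset.prod_const, ← Finset.prod_mul_distrib]
    exact Finset.prod_congr rfl fun μ hμ => (hw2 μ hμ).symm
  rw [h2]
  have h3 := eval_one_cyclotomic_prime_pow (R := ℂ) (p := 2) k
  rw [cyclotomic_eq_prod_X_sub_primitiveRoots hζ, eval_prod] at h3
  simpa using h3

/-- Coefficients of a polynomial of small degree whose value at `ζ` is divisible by `2`. -/
theorem two_dvd_coeff (hM : IsPModular 2 M) (hζ : IsPrimitiveRoot ζ (2 ^ (k + 1))) (A : ℤ[X])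
    (hA : A.natDegree < 2 ^ k) {γ : ℂ} (hγ : MemLocalRing M γ) (h : aeval ζ A = 2 * γ) (e : ℕ) :
    2 ∣ A.coeff e := by
  have := isPrime_of_isPModular hM
  obtain ⟨v, hv, hv2⟩ := exists_mul_eq_two hζ
  set π : ℂ := ζ - 1 with hπ
  have hπM : MemLocalIdeal M π :=
    Cfsg.Agent.H613.Contrib.memLocalIdeal_root_sub_one hM (j := k + 1) hζ.pow_eq_one
  have hvM : MemLocalRing M v := memLocalRing_of_isIntegral hv
  have hπ0 : π ≠ 0 := by
    intro h0
    rw [h0, zero_pow (pow_ne_zero _ (by norm_num)), zero_mul] at hv2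
    exact two_ne_zero hv2.symm
  set A' : ℤ[X] := taylor 1 A with hA'
  have hdeg : A'.natDegree < 2 ^ k := by rw [hA', natDegree_taylor]; exact hA
  have hval : ∑ t ∈ Finset.range (2 ^ k), (A'.coeff t : ℂ) * π ^ t = 2 * γ := by
    have h1 : aeval π A' = aeval ζ A := by
      rw [hA', taylor_apply, aeval_comp]
      simp [hπ]
    rw [← h, ← h1, aeval_eq_sum_range' hdeg]
    refine Finset.sum_congr rfl fun t _ => ?_
    rw [zsmul_eq_mul]
  have hpow : ∀ m : ℕ, m ≠ 0 → MemLocalIdeal M (π ^ m) := fun m hm => memLocalIdeal_pow hπM hm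
  have key : ∀ s, s < 2 ^ k → 2 ∣ A'.coeff s := by
    intro s
    induction s using Nat.strong_induction_on with
    | _ s ih =>
      intro hs
      have h1 : (A'.coeff s : ℂ) = 2 * γ / π ^ s -
          ∑ t ∈ (Finset.range (2 ^ k)).erase s, (A'.coeff t : ℂ) * π ^ t / π ^ s := by
        rw [← hval, ← Finset.add_sum_erase _ _ (Finset.mem_range.2 hs), ← Finset.sum_div]
        have : π ^ s ≠ 0 := pow_ne_zero _ hπ0
        field_simp
        ring
      have h2 : MemLocalIdeal M (A'.coeff s : ℂ) := by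
        rw [h1]
        refine memLocalIdeal_sub ?_ (memLocalIdeal_sum fun t ht => ?_)
        · have h3 : 2 * γ / π ^ s = π ^ (2 ^ k - s) * (v * γ) := by
            rw [← hv2]
            have h4 : π ^ (2 ^ k) = π ^ (2 ^ k - s) * π ^ s := by
              rw [← pow_add, Nat.sub_add_cancel hs.le]
            rw [h4]
            have : π ^ s ≠ 0 := pow_ne_zero _ hπ0
            field_simp
          rw [h3]
          exact memLocalIdeal_mul_right (hpow _ (by omega)) (memLocalRing_mul hvM hγ)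
        · rcases lt_or_gt_of_ne (Finset.ne_of_mem_erase ht) with hlt | hgt
          · obtain ⟨c, hc⟩ := ih t hlt (hlt.trans hs)
            have h3 : (A'.coeff t : ℂ) * π ^ t / π ^ s =
                π ^ (2 ^ k - s) * (v * (c * π ^ t)) := by
              have h4 : π ^ (2 ^ k) = π ^ (2 ^ k - s) * π ^ s := by
                rw [← pow_add, Nat.sub_add_cancel hs.le]
              rw [hc]
              push_cast
              rw [← hv2, h4]
              have : π ^ s ≠ 0 := pow_ne_zero _ hπ0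
              field_simp
            rw [h3]
            refine memLocalIdeal_mul_right (hpow _ (by omega)) (memLocalRing_mul hvM
              (memLocalRing_mul (memLocalRing_intCast _) (memLocalRing_pow
                (memLocalRing_of_memLocalIdeal hπM) _)))
          · have h3 : (A'.coeff t : ℂ) * π ^ t / π ^ s = (A'.coeff t : ℂ) * π ^ (t - s) := by
              have h4 : π ^ t = π ^ (t - s) * π ^ s := by
                rw [← pow_add, Nat.sub_add_cancel hgt.le]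
              rw [h4]
              have : π ^ s ≠ 0 := pow_ne_zero _ hπ0
              field_simp
            rw [h3]
            exact memLocalIdeal_mul_left (memLocalRing_intCast _) (hpow _ (by omega))
      exact_mod_cast (memLocalIdeal_intCast_iff hM _).1 h2
  have h5 : (C (2 : ℤ)) ∣ A' := by
    rw [C_dvd_iff_dvd_coeff]
    intro i
    by_cases hi : i < 2 ^ k
    · exact key i hi
    · rw [coeff_eq_zero_of_natDegree_lt (by omega)]
      exact dvd_zero _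
  obtain ⟨Q, hQ⟩ := h5
  have h6 : A = C (2 : ℤ) * taylor (-1) Q := by
    have h7 : taylor (-1) A' = A := by
      rw [hA', taylor_taylor]
      simp
    rw [← h7, hQ, taylor_mul, taylor_C]
  have h8 : (C (2 : ℤ)) ∣ A := ⟨_, h6⟩
  exact (C_dvd_iff_dvd_coeff _ _).1 h8 e

theorem two_dvd_of_valA (hM : IsPModular 2 M) (hζ : IsPrimitiveRoot ζ (2 ^ (k + 1)))
    {a : ℕ → ℤ} {γ : ℂ} (hγ : MemLocalRing M γ) (h : valA ζ (2 ^ k) a 1 = 2 * γ) {e : ℕ}
    (he : e < 2 ^ k) : 2 ∣ a e := by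
  let A : ℤ[X] := ∑ t ∈ Finset.range (2 ^ k), C (a t) * X ^ t
  have hcoeff : ∀ t, A.coeff t = if t < 2 ^ k then a t else 0 := by
    intro t
    simp only [A, finsetSum_coeff, coeff_C_mul, coeff_X_pow]
    by_cases ht : t < 2 ^ k
    · rw [if_pos ht, Finset.sum_eq_single t]
      · simp
      · intro s _ hs
        rw [if_neg (Ne.symm hs), mul_zero]
      · intro h'
        exact absurd (Finset.mem_range.2 ht) h'
    · rw [if_neg ht]
      refine Finset.sum_eq_zero fun s hs => ?_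
      rw [Finset.mem_range] at hs
      rw [if_neg (by omega), mul_zero]
  have hpos : 0 < 2 ^ k := pow_pos (by norm_num) k
  have hdeg : A.natDegree < 2 ^ k := by
    have : A.natDegree ≤ 2 ^ k - 1 := by
      rw [natDegree_le_iff_coeff_eq_zero]
      intro N hN
      rw [hcoeff, if_neg (by omega)]
    omega
  have hval : aeval ζ A = 2 * γ := by
    rw [← h, valA_def]
    simp [A]
  have := two_dvd_coeff hM hζ A hdeg hγ hval e
  rwa [hcoeff, if_pos he] at this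

/-- The coefficients are divisible by `2 ^ i` if the value is so, locally. -/
theorem pow_dvd_of_memLocalRing (hM : IsPModular 2 M) (hζ : IsPrimitiveRoot ζ (2 ^ (k + 1)))
    (i : ℕ) : ∀ {a : ℕ → ℤ}, MemLocalRing M (valA ζ (2 ^ k) a 1 / 2 ^ i) → ∀ {e : ℕ}, e < 2 ^ k →
      2 ^ i ∣ a e := by
  have := isPrime_of_isPModular hM
  induction i with
  | zero =>
    intro a _ e _
    simp
  | succ i ih =>
    intro a h e he
    have h1 : MemLocalRing M (valA ζ (2 ^ k) a 1 / 2 ^ i) := by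
      have h2 : valA ζ (2 ^ k) a 1 / 2 ^ i = ((2 : ℕ) : ℂ) * (valA ζ (2 ^ k) a 1 / 2 ^ (i + 1)) := by
        rw [pow_succ]
        push_cast
        field_simp
      rw [h2]
      exact memLocalRing_mul (memLocalRing_natCast _) h
    have h3 : ∀ e < 2 ^ k, a e = 2 ^ i * (a e / 2 ^ i) := fun e he =>
      (Int.mul_ediv_cancel' (ih h1 he)).symm
    have h4 : valA ζ (2 ^ k) (fun e => a e / 2 ^ i) 1 = 2 * (valA ζ (2 ^ k) a 1 / 2 ^ (i + 1)) := by
      have h5 : valA ζ (2 ^ k) a 1 = ((2 ^ i : ℤ) : ℂ) * valA ζ (2 ^ k) (fun e => a e / 2 ^ i) 1 := by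
        rw [← valA_mul]
        exact valA_congr _ _ h3 1
      rw [h5, pow_succ]
      push_cast
      field_simp
    obtain ⟨c, hc⟩ := two_dvd_of_valA hM hζ h h4 he
    refine ⟨c, ?_⟩
    have h6 := h3 e he
    have hc' : a e / 2 ^ i = 2 * c := hc
    rw [hc'] at h6
    rw [h6]
    ring

/-- Linear independence. -/
theorem eq_zero_of_valA (hM : IsPModular 2 M) (hζ : IsPrimitiveRoot ζ (2 ^ (k + 1)))
    {a : ℕ → ℤ} (h : valA ζ (2 ^ k) a 1 = 0) {e : ℕ} (he : e < 2 ^ k) : a e = 0 := by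
  have := isPrime_of_isPModular hM
  by_contra hne
  have h1 : (2 : ℤ) ^ (a e).natAbs ∣ a e := pow_dvd_of_memLocalRing hM hζ _
    (by rw [h, zero_div]; exact memLocalRing_zero) he
  have h2 := Int.natAbs_dvd_natAbs.2 h1
  rw [Int.natAbs_pow] at h2
  have h3 := Nat.le_of_dvd (Int.natAbs_pos.2 hne) h2
  have h4 : (a e).natAbs < 2 ^ (a e).natAbs := Nat.lt_two_pow_self
  have h5 : (2 : ℤ).natAbs = 2 := rfl
  rw [h5] at h3
  omega

/-- The sum of the values at the odd powers. -/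
theorem sum_valA (hζ : IsPrimitiveRoot ζ (2 ^ (k + 1))) (a : ℕ → ℤ) :
    ∑ m ∈ Finset.range (2 ^ k), valA ζ (2 ^ k) a (2 * m + 1) = (2 ^ k : ℕ) * (a 0 : ℂ) := by
  have hpos : 0 < 2 ^ k := pow_pos (by norm_num) k
  simp only [valA_def]
  rw [Finset.sum_comm, Finset.sum_eq_single 0]
  · simp
  · intro e he he0
    rw [Finset.mem_range] at he
    rw [← Finset.mul_sum]
    have h1 : ∀ m, ζ ^ ((2 * m + 1) * e) = ζ ^ e * (ζ ^ (2 * e)) ^ m := by
      intro m
      rw [← pow_mul, ← pow_add]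
      congr 1
      ring
    rw [Finset.sum_congr rfl (fun m _ => h1 m), ← Finset.mul_sum]
    have h2 : (∑ m ∈ Finset.range (2 ^ k), (ζ ^ (2 * e)) ^ m) * (ζ ^ (2 * e) - 1) = 0 := by
      rw [geom_sum_mul, ← pow_mul]
      have : 2 * e * 2 ^ k = 2 ^ (k + 1) * e := by ring
      rw [this, pow_mul, hζ.pow_eq_one, one_pow, sub_self]
    have h3 : ζ ^ (2 * e) - 1 ≠ 0 := by
      intro h
      have h4 := (hζ.pow_eq_one_iff_dvd (2 * e)).1 (sub_eq_zero.1 h)
      have h5 := Nat.le_of_dvd (by omega) h4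
      rw [pow_succ] at h5
      omega
    rw [(mul_eq_zero.1 h2).resolve_right h3, mul_zero, mul_zero]
  · intro h
    exact absurd (Finset.mem_range.2 hpos) h

theorem conj_root (hζ : IsPrimitiveRoot ζ (2 ^ (k + 1))) {e : ℕ} (he : e ≤ 2 ^ k) :
    conj (ζ ^ e) = - ζ ^ (2 ^ k - e) := by
  have h1 : ζ ^ e * ζ ^ (2 ^ k - e) = -1 := by
    rw [← pow_add, Nat.add_sub_cancel' he, pow_half hζ]
  have h2 : ζ ^ e * conj (ζ ^ e) = 1 := by
    rw [Complex.mul_conj, Complex.normSq_eq_norm_sq, norm_pow,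
      Complex.norm_eq_one_of_pow_eq_one hζ.pow_eq_one (pow_ne_zero _ (by norm_num))]
    simp
  have h3 : ζ ^ e ≠ 0 := left_ne_zero_of_mul (h2.symm ▸ one_ne_zero)
  apply mul_left_cancel₀ h3
  rw [h2, mul_neg, h1, neg_neg]

/-- The average of the conjugates of a real value. -/
theorem exists_avg (hM : IsPModular 2 M) (hζ : IsPrimitiveRoot ζ (2 ^ (k + 1))) {i : ℕ}
    {a : ℕ → ℤ} (h : MemLocalRing M (valA ζ (2 ^ k) a 1 / 2 ^ i))
    (hreal : conj (valA ζ (2 ^ k) a 1) = valA ζ (2 ^ k) a 1) :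
    ∃ b : ℤ, a 0 = 2 ^ i * b ∧ MemLocalIdeal M (valA ζ (2 ^ k) a 1 / 2 ^ i - b) := by
  have := isPrime_of_isPModular hM
  have hpos : 0 < 2 ^ k := pow_pos (by norm_num) k
  let b : ℕ → ℤ := fun e => a e / 2 ^ i
  have h3 : ∀ e < 2 ^ k, a e = 2 ^ i * b e := fun e he =>
    (Int.mul_ediv_cancel' (pow_dvd_of_memLocalRing hM hζ i h he)).symm
  have h5 : valA ζ (2 ^ k) a 1 = ((2 ^ i : ℤ) : ℂ) * valA ζ (2 ^ k) b 1 := by
    rw [← valA_mul]
    exact valA_congr _ _ h3 1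
  have h2i : ((2 ^ i : ℤ) : ℂ) ≠ 0 := by
    push_cast
    exact pow_ne_zero _ two_ne_zero
  have h6 : valA ζ (2 ^ k) a 1 / 2 ^ i = valA ζ (2 ^ k) b 1 := by
    rw [h5]
    push_cast
    field_simp
  have hreal' : conj (valA ζ (2 ^ k) b 1) = valA ζ (2 ^ k) b 1 := by
    rw [h5, map_mul, map_intCast] at hreal
    exact mul_left_cancel₀ h2i hreal
  -- antisymmetry of the coefficients
  have hanti : ∀ e < 2 ^ k, e ≠ 0 → b e + b (2 ^ k - e) = 0 := by
    let d : ℕ → ℤ := fun e => if e = 0 then 0 else b e + b (2 ^ k - e)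
    have hd : valA ζ (2 ^ k) d 1 = 0 := by
      have h7 : valA ζ (2 ^ k) b 1 - conj (valA ζ (2 ^ k) b 1) = 0 := by rw [hreal', sub_self]
      rw [← h7, valA_def, valA_def, map_sum]
      obtain ⟨n', hn'⟩ : ∃ n', 2 ^ k = n' + 1 := ⟨2 ^ k - 1, by omega⟩
      have hconj : ∀ e, e ≤ n' + 1 → conj (ζ ^ e) = -ζ ^ (n' + 1 - e) := by
        intro e he
        have := conj_root hζ (e := e) (by omega)
        rwa [hn'] at this
      rw [hn', Finset.sum_range_succ', Finset.sum_range_succ' (n := n'), Finset.sum_range_succ'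
        (n := n')]
      have h8 : ∑ e ∈ Finset.range n', conj ((b (e + 1) : ℂ) * ζ ^ (1 * (e + 1))) =
          - ∑ e ∈ Finset.range n', (b (n' + 1 - (e + 1)) : ℂ) * ζ ^ (1 * (e + 1)) := by
        rw [← Finset.sum_range_reflect (fun e => (b (n' + 1 - (e + 1)) : ℂ) * ζ ^ (1 * (e + 1))),
          ← Finset.sum_neg_distrib]
        refine Finset.sum_congr rfl fun e he => ?_
        rw [Finset.mem_range] at he
        rw [map_mul, map_intCast, one_mul, hconj (e + 1) (by omega)]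
        have e1 : n' + 1 - (n' - 1 - e + 1) = e + 1 := by omega
        have e2 : 1 * (n' - 1 - e + 1) = n' + 1 - (e + 1) := by omega
        rw [e1, e2]
        ring
      rw [h8]
      simp only [d, Nat.add_eq_zero_iff, one_ne_zero, and_false, if_false, if_true, hn']
      push_cast
      simp only [pow_zero, mul_one, map_intCast]
      rw [show ∀ x y z : ℂ, x + z - (-y + z) = x + y from fun x y z => by ring,
        ← Finset.sum_add_distrib]
      simp only [add_zero, one_mul]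
      refine Finset.sum_congr rfl fun e _ => ?_
      ring
    intro e he he0
    have := eq_zero_of_valA hM hζ hd he
    simpa [d, he0] using this
  refine ⟨b 0, h3 0 hpos, ?_⟩
  rw [h6]
  have hS : ∑ e ∈ Finset.range (2 ^ k), b e = b 0 := by
    obtain ⟨n', hn'⟩ : ∃ n', 2 ^ k = n' + 1 := ⟨2 ^ k - 1, by omega⟩
    rw [hn', Finset.sum_range_succ']
    have h9 : ∑ e ∈ Finset.range n', b (e + 1) + ∑ e ∈ Finset.range n', b (e + 1) = 0 := by
      conv_lhs =>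
        arg 2
        rw [← Finset.sum_range_reflect (fun e => b (e + 1))]
      rw [← Finset.sum_add_distrib]
      refine Finset.sum_eq_zero fun e he => ?_
      rw [Finset.mem_range] at he
      have := hanti (e + 1) (by omega) (by omega)
      rw [hn'] at this
      have e1 : n' - 1 - e + 1 = n' + 1 - (e + 1) := by omega
      rw [e1]
      exact this
    omega
  have h10 : ((b 0 : ℤ) : ℂ) = ∑ e ∈ Finset.range (2 ^ k), (b e : ℂ) := by
    rw [← hS]
    push_cast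
    rfl
  rw [h10, valA_def]
  refine memLocalIdeal_sum_sub_sum fun e _ => ?_
  have h11 : (b e : ℂ) * ζ ^ (1 * e) - b e = b e * (ζ ^ e - 1) := by
    rw [one_mul]
    ring
  rw [h11]
  refine memLocalIdeal_mul_left (memLocalRing_intCast _)
    (Cfsg.Agent.H613.Contrib.memLocalIdeal_root_sub_one hM (j := k + 1) ?_)
  rw [← pow_mul, mul_comm, pow_mul, hζ.pow_eq_one, one_pow]

/-- The primitive roots are the odd powers. -/
theorem image_odd [DecidableEq ℂ] (hζ : IsPrimitiveRoot ζ (2 ^ (k + 1))) :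
    (Finset.range (2 ^ k)).image (fun m => ζ ^ (2 * m + 1)) = primitiveRoots (2 ^ (k + 1)) ℂ := by
  apply Finset.eq_of_subset_of_card_le
  · intro μ hμ
    obtain ⟨m, -, rfl⟩ := Finset.mem_image.1 hμ
    rw [mem_primitiveRoots (pow_pos (by norm_num) _)]
    refine hζ.pow_of_coprime _ (Nat.Coprime.pow_right _ ?_)
    rw [Nat.coprime_two_right]
    exact ⟨m, rfl⟩
  · rw [hζ.card_primitiveRoots, Nat.totient_prime_pow Nat.prime_two (Nat.succ_pos k),
      Finset.card_image_of_injOn]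
    · simp
    · intro m hm m' hm' h
      have hm1 := Finset.mem_range.1 (Finset.mem_coe.1 hm)
      have hm2 := Finset.mem_range.1 (Finset.mem_coe.1 hm')
      have h1 : 2 * m + 1 < 2 ^ (k + 1) := by rw [pow_succ]; omega
      have h2 : 2 * m' + 1 < 2 ^ (k + 1) := by rw [pow_succ]; omega
      have := hζ.pow_inj h1 h2 h
      omega

theorem prod_odd (hζ : IsPrimitiveRoot ζ (2 ^ (k + 1))) (F : ℂ → ℂ) :
    ∏ m ∈ Finset.range (2 ^ k), F (ζ ^ (2 * m + 1)) = ∏ μ ∈ primitiveRoots (2 ^ (k + 1)) ℂ, F μ := by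
  classical
  rw [← image_odd hζ, Finset.prod_image]
  intro m hm m' hm' h
  have hm1 := Finset.mem_range.1 (Finset.mem_coe.1 hm)
  have hm2 := Finset.mem_range.1 (Finset.mem_coe.1 hm')
  have h1 : 2 * m + 1 < 2 ^ (k + 1) := by rw [pow_succ]; omega
  have h2 : 2 * m' + 1 < 2 ^ (k + 1) := by rw [pow_succ]; omega
  have := hζ.pow_inj h1 h2 h
  omega

theorem valA_eq_aeval (ζ : ℂ) (n : ℕ) (a : ℕ → ℤ) (j : ℕ) :
    valA ζ n a j = ∑ e ∈ Finset.range n, (a e : ℂ) * (ζ ^ j) ^ e := by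
  rw [valA_def]
  exact Finset.sum_congr rfl fun e _ => by rw [pow_mul]

theorem map_valA (σ : ℂ →+* ℂ) (ζ : ℂ) (n : ℕ) (a : ℕ → ℤ) {j : ℕ} (hσ : σ ζ = ζ ^ j) :
    σ (valA ζ n a 1) = valA ζ n a j := by
  rw [valA_def, valA_def, map_sum]
  refine Finset.sum_congr rfl fun e _ => ?_
  rw [map_mul, map_intCast, map_pow, hσ, one_mul, ← pow_mul]

/-- All conjugates are nonzero. -/
theorem valA_ne_zero (hζ : IsPrimitiveRoot ζ (2 ^ (k + 1))) {a : ℕ → ℤ}
    (h : valA ζ (2 ^ k) a 1 ≠ 0) (m : ℕ) : valA ζ (2 ^ k) a (2 * m + 1) ≠ 0 := by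
  have hcop : (2 * m + 1).Coprime (2 ^ (k + 1)) := by
    refine Nat.Coprime.pow_right _ ?_
    rw [Nat.coprime_two_right]
    exact ⟨m, rfl⟩
  obtain ⟨σ, hσ⟩ := Cfsg.Agent.Characters.Galois.exists_ringEquiv_complex
    (pow_ne_zero (k + 1) (two_ne_zero : (2 : ℕ) ≠ 0)) hcop
  have h1 : σ ζ = ζ ^ (2 * m + 1) := hσ ζ hζ.pow_eq_one
  rw [← map_valA (σ : ℂ →+* ℂ) ζ (2 ^ k) a h1]
  exact (map_ne_zero (σ : ℂ →+* ℂ)).2 h

theorem isIntegral_valA (hζ : IsPrimitiveRoot ζ (2 ^ (k + 1))) (n : ℕ) (a : ℕ → ℤ) (j : ℕ) :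
    IsIntegral ℤ (valA ζ n a j) := by
  rw [valA_def]
  refine IsIntegral.sum _ fun e _ => ?_
  have : IsIntegral ℤ ((a e : ℤ) : ℂ) := isIntegral_algebraMap (x := a e)
  exact this.mul ((isIntegral_root hζ).pow _)

/-- The product of the conjugates is an integer. -/
theorem exists_int_prod (hζ : IsPrimitiveRoot ζ (2 ^ (k + 1))) (a : ℕ → ℤ) :
    ∃ z : ℤ, ∏ m ∈ Finset.range (2 ^ k), valA ζ (2 ^ k) a (2 * m + 1) = z := by
  refine Cfsg.Agent.Characters.Galois.exists_int_of_forall_ringEquiv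
    (IsIntegral.prod _ fun m _ => isIntegral_valA hζ _ _ _) fun σ => ?_
  have h1 : ∏ m ∈ Finset.range (2 ^ k), valA ζ (2 ^ k) a (2 * m + 1) =
      ∏ μ ∈ primitiveRoots (2 ^ (k + 1)) ℂ, ∑ e ∈ Finset.range (2 ^ k), (a e : ℂ) * μ ^ e := by
    rw [← prod_odd hζ]
    exact Finset.prod_congr rfl fun m _ => valA_eq_aeval _ _ _ _
  rw [h1, map_prod]
  have hN : 0 < 2 ^ (k + 1) := pow_pos (by norm_num) _
  refine Finset.prod_nbij' (fun μ => σ μ) (fun μ => σ.symm μ) ?_ ?_ ?_ ?_ ?_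
  · intro μ hμ
    rw [mem_primitiveRoots hN] at hμ ⊢
    exact hμ.map_of_injective (f := (σ : ℂ →+* ℂ)) σ.injective
  · intro μ hμ
    rw [mem_primitiveRoots hN] at hμ ⊢
    exact hμ.map_of_injective (f := (σ.symm : ℂ →+* ℂ)) σ.symm.injective
  · intro μ _
    exact σ.symm_apply_apply μ
  · intro μ _
    exact σ.apply_symm_apply μ
  · intro μ _
    rw [map_sum]
    refine Finset.sum_congr rfl fun e _ => ?_
    rw [map_mul, map_intCast, map_pow]

/-- Arithmetic-geometric mean for the conjugates. -/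
theorem card_le_sum_norm_sq (hζ : IsPrimitiveRoot ζ (2 ^ (k + 1))) {a : ℕ → ℤ}
    (h : valA ζ (2 ^ k) a 1 ≠ 0) :
    ((2 ^ k : ℕ) : ℝ) ≤ ∑ m ∈ Finset.range (2 ^ k), ‖valA ζ (2 ^ k) a (2 * m + 1)‖ ^ 2 := by
  obtain ⟨z, hz⟩ := exists_int_prod hζ a
  have hz0 : z ≠ 0 := by
    rintro rfl
    rw [Int.cast_zero, Finset.prod_eq_zero_iff] at hz
    obtain ⟨m, -, hm⟩ := hz
    exact valA_ne_zero hζ h m hm
  have h1 : 1 ≤ ∏ m ∈ Finset.range (2 ^ k), ‖valA ζ (2 ^ k) a (2 * m + 1)‖ ^ 2 := by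
    rw [Finset.prod_pow, ← norm_prod, hz]
    have h2 : (1 : ℝ) ≤ ‖((z : ℤ) : ℂ)‖ := by
      rw [Complex.norm_intCast]
      exact_mod_cast Int.one_le_abs hz0
    nlinarith
  have hN : (0 : ℝ) < ((2 ^ k : ℕ) : ℝ) := by positivity
  have h2 := Real.geom_mean_le_arith_mean_weighted (Finset.range (2 ^ k))
    (fun _ => (((2 ^ k : ℕ) : ℝ))⁻¹) (fun m => ‖valA ζ (2 ^ k) a (2 * m + 1)‖ ^ 2)
    (fun _ _ => inv_nonneg.2 hN.le)
    (by rw [Finset.sum_const, Finset.card_range, nsmul_eq_mul, mul_inv_cancel₀ hN.ne'])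
    (fun _ _ => by positivity)
  rw [Real.finsetProd_rpow _ _ (fun _ _ => by positivity), ← Finset.mul_sum] at h2
  have h3 : (1 : ℝ) ≤ (∏ m ∈ Finset.range (2 ^ k), ‖valA ζ (2 ^ k) a (2 * m + 1)‖ ^ 2) ^
      (((2 ^ k : ℕ) : ℝ))⁻¹ := Real.one_le_rpow h1 (inv_nonneg.2 hN.le)
  have h4 := h3.trans h2
  rw [← div_eq_inv_mul, le_div_iff₀ hN, one_mul] at h4
  exact h4

/-- The bound for a value divisible by `2 ^ i` locally. -/
theorem le_sum_norm_sq (hM : IsPModular 2 M) (hζ : IsPrimitiveRoot ζ (2 ^ (k + 1))) {i : ℕ}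
    {a : ℕ → ℤ} (h : MemLocalRing M (valA ζ (2 ^ k) a 1 / 2 ^ i))
    (h0 : valA ζ (2 ^ k) a 1 ≠ 0) :
    (4 : ℝ) ^ i * ((2 ^ k : ℕ) : ℝ) ≤
      ∑ m ∈ Finset.range (2 ^ k), ‖valA ζ (2 ^ k) a (2 * m + 1)‖ ^ 2 := by
  let b : ℕ → ℤ := fun e => a e / 2 ^ i
  have h3 : ∀ e < 2 ^ k, a e = 2 ^ i * b e := fun e he =>
    (Int.mul_ediv_cancel' (pow_dvd_of_memLocalRing hM hζ i h he)).symm
  have h5 : ∀ j, valA ζ (2 ^ k) a j = ((2 ^ i : ℤ) : ℂ) * valA ζ (2 ^ k) b j := by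
    intro j
    rw [← valA_mul]
    exact valA_congr _ _ h3 j
  have hb0 : valA ζ (2 ^ k) b 1 ≠ 0 := by
    intro hb
    rw [h5, hb, mul_zero] at h0
    exact h0 rfl
  have h6 := card_le_sum_norm_sq hζ hb0
  have h7 : ∀ m, ‖valA ζ (2 ^ k) a (2 * m + 1)‖ ^ 2 =
      (4 : ℝ) ^ i * ‖valA ζ (2 ^ k) b (2 * m + 1)‖ ^ 2 := by
    intro m
    rw [h5, norm_mul, mul_pow]
    congr 1
    push_cast
    rw [norm_pow, ← pow_mul, mul_comm i 2, pow_mul]
    norm_num
  simp only [h7]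
  rw [← Finset.mul_sum]
  exact mul_le_mul_of_nonneg_left h6 (by positivity)

/-- Coordinates. -/
theorem exists_coords (hζ : IsPrimitiveRoot ζ (2 ^ (k + 1))) {ι : Type*} (s : Finset ι) (c : ι → ℤ)
    (w : ι → ℂ) (hw : ∀ i ∈ s, w i ^ (2 ^ (k + 1)) = 1) :
    ∃ a : ℕ → ℤ, ∀ m : ℕ, ∑ i ∈ s, (c i : ℂ) * w i ^ (2 * m + 1) =
      valA ζ (2 ^ k) a (2 * m + 1) := by
  classical
  induction s using Finset.induction_on with
  | empty =>
    refine ⟨fun _ => 0, fun m => ?_⟩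
    rw [Finset.sum_empty, valA_def]
    exact (Finset.sum_eq_zero fun e _ => by rw [Int.cast_zero, zero_mul]).symm
  | insert i s hi ih =>
    obtain ⟨a, ha⟩ := ih fun j hj => hw j (Finset.mem_insert_of_mem hj)
    have hone : ∃ a' : ℕ → ℤ, ∀ m : ℕ, (c i : ℂ) * w i ^ (2 * m + 1) =
        valA ζ (2 ^ k) a' (2 * m + 1) := by
      obtain ⟨t, ht, hwt⟩ := hζ.eq_pow_of_pow_eq_one (hw i (Finset.mem_insert_self _ _))
      rw [pow_succ] at ht
      by_cases htn : t < 2 ^ k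
      · refine ⟨fun e => if e = t then c i else 0, fun m => ?_⟩
        rw [valA_def, Finset.sum_eq_single t]
        · rw [if_pos rfl, ← hwt, ← pow_mul, mul_comm t]
        · intro e _ he
          rw [if_neg he, Int.cast_zero, zero_mul]
        · intro h
          exact absurd (Finset.mem_range.2 htn) h
      · refine ⟨fun e => if e = t - 2 ^ k then -c i else 0, fun m => ?_⟩
        rw [valA_def, Finset.sum_eq_single (t - 2 ^ k)]
        · rw [if_pos rfl, ← hwt, ← pow_mul]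
          have h1 : t * (2 * m + 1) = 2 ^ k * (2 * m + 1) + (2 * m + 1) * (t - 2 ^ k) := by
            have h2 : t = 2 ^ k + (t - 2 ^ k) := by omega
            conv_lhs => rw [h2]
            ring
          rw [h1, pow_add, pow_mul, pow_half hζ, Odd.neg_one_pow ⟨m, rfl⟩]
          push_cast
          ring
        · intro e _ he
          rw [if_neg he, Int.cast_zero, zero_mul]
        · intro h
          exact absurd (Finset.mem_range.2 (by omega)) h
    obtain ⟨a', ha'⟩ := hone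
    refine ⟨fun e => a' e + a e, fun m => ?_⟩
    rw [Finset.sum_insert hi, valA_add, ha, ha']

end Cfsg.Agent.H624.TTwo
end

-- part: H624/MajTwo
section
/-!
# Major subsections of 2-blocks: bounds from the contribution matrices

`Proj`: the abstract properties of the matrices `2 ^ d * contr χ ψ` for the generators of `⟨z⟩`
(coordinates in a fixed basis of `ℤ[ζ]`, hermitian, idempotent up to `2 ^ d`, trace, residues).
-/

set_option autoImplicit false

open Cfsg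
open scoped ComplexConjugate

namespace Cfsg.Agent.H624.MajTwo

open Cfsg.Agent.Blocks.Local Cfsg.Agent.Blocks.Blau Cfsg.Agent.Characters
open Cfsg.Agent.H613.RegGram Cfsg.Agent.H613.Contrib Cfsg.Agent.H613.ContribVal
open Cfsg.Agent.H624.TTwo Cfsg.Agent.H624.MajVal

variable {M : Ideal AlgInt} {ζ : ℂ} {k d : ℕ}

/-- The properties of the family of the matrices `2 ^ d * contr`. -/
structure Proj (M : Ideal AlgInt) (ζ : ℂ) (k d : ℕ) {ι : Type*} [Fintype ι] (ht : ι → ℕ)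
    (P : ℕ → ι → ι → ℂ) (a : ι → ι → ℕ → ℤ) (r : ℤ) : Prop where
  coords : ∀ m χ ψ, P m χ ψ = valA ζ (2 ^ k) (a χ ψ) (2 * m + 1)
  herm : ∀ m χ ψ, conj (P m χ ψ) = P m ψ χ
  idem : ∀ m χ χ', ∑ ψ, P m χ ψ * P m ψ χ' = 2 ^ d * P m χ χ'
  trace : ∀ m, ∑ χ, P m χ χ = 2 ^ d * r
  ring : ∀ χ ψ, ht ψ = 0 → MemLocalRing M (P 0 χ ψ / 2 ^ ht χ)
  unit : ∀ χ ψ, ht ψ = 0 → ¬ MemLocalIdeal M (P 0 χ ψ / 2 ^ ht χ)
  self : ∀ χ, ht χ ≠ 0 → MemLocalIdeal M (P 0 χ χ / 2 ^ ht χ)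

namespace Proj

variable {ι : Type*} [Fintype ι] {ht : ι → ℕ} {P : ℕ → ι → ι → ℂ} {a : ι → ι → ℕ → ℤ} {r : ℤ}

theorem self_eq (h : Proj M ζ k d ht P a r) (m : ℕ) (χ : ι) :
    (2 : ℂ) ^ d * P m χ χ = ((∑ ψ, ‖P m χ ψ‖ ^ 2 : ℝ) : ℂ) := by
  rw [← h.idem m χ χ]
  push_cast
  refine Finset.sum_congr rfl fun ψ _ => ?_
  rw [← h.herm m χ ψ, Complex.mul_conj, Complex.normSq_eq_norm_sq]
  push_cast
  rfl

theorem sum_self (hζ : IsPrimitiveRoot ζ (2 ^ (k + 1))) (h : Proj M ζ k d ht P a r) (χ : ι) :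
    ∑ m ∈ Finset.range (2 ^ k), ∑ ψ, ‖P m χ ψ‖ ^ 2 =
      (2 : ℝ) ^ d * (((2 ^ k : ℕ) : ℝ) * (a χ χ 0 : ℝ)) := by
  have h1 := sum_valA hζ (a χ χ)
  have h2 : ∑ m ∈ Finset.range (2 ^ k), (2 : ℂ) ^ d * P m χ χ =
      (2 : ℂ) ^ d * ((2 ^ k : ℕ) * (a χ χ 0 : ℂ)) := by
    rw [← Finset.mul_sum, ← h1]
    congr 1
    exact Finset.sum_congr rfl fun m _ => h.coords m χ χ
  rw [Finset.sum_congr rfl (fun m _ => h.self_eq m χ)] at h2
  have h3 : (((∑ m ∈ Finset.range (2 ^ k), ∑ ψ, ‖P m χ ψ‖ ^ 2 : ℝ)) : ℂ) =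
      (((2 : ℝ) ^ d * (((2 ^ k : ℕ) : ℝ) * (a χ χ 0 : ℝ)) : ℝ) : ℂ) := by
    rw [Complex.ofReal_sum, h2]
    push_cast
    ring
  exact_mod_cast h3

theorem norm_symm (h : Proj M ζ k d ht P a r) (m : ℕ) (χ ψ : ι) : ‖P m χ ψ‖ = ‖P m ψ χ‖ := by
  rw [← h.herm m ψ χ]
  exact Complex.norm_conj _

theorem le_row (hM : IsPModular 2 M) (hζ : IsPrimitiveRoot ζ (2 ^ (k + 1)))
    (h : Proj M ζ k d ht P a r) (χ : ι) {ψ : ι} (hψ : ht ψ = 0) :
    (4 : ℝ) ^ ht χ * ((2 ^ k : ℕ) : ℝ) ≤ ∑ m ∈ Finset.range (2 ^ k), ‖P m χ ψ‖ ^ 2 := by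
  have := isPrime_of_isPModular hM
  have h0 : P 0 χ ψ = valA ζ (2 ^ k) (a χ ψ) 1 := h.coords 0 χ ψ
  have h1 := h.ring χ ψ hψ
  have h2 := h.unit χ ψ hψ
  rw [h0] at h1 h2
  have h3 : valA ζ (2 ^ k) (a χ ψ) 1 ≠ 0 := by
    intro h
    apply h2
    rw [h, zero_div]
    exact memLocalIdeal_zero
  refine (le_sum_norm_sq hM hζ h1 h3).trans (le_of_eq ?_)
  exact Finset.sum_congr rfl fun m _ => by rw [h.coords m χ ψ]

theorem row_bound (hM : IsPModular 2 M) (hζ : IsPrimitiveRoot ζ (2 ^ (k + 1)))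
    (h : Proj M ζ k d ht P a r) {χ : ι} (hχ : ht χ = 0) :
    ∑ ψ, (4 : ℤ) ^ ht ψ ≤ 2 ^ d * a χ χ 0 := by
  have hN : (0 : ℝ) < ((2 ^ k : ℕ) : ℝ) := by positivity
  have h1 : ∑ ψ, (4 : ℝ) ^ ht ψ * ((2 ^ k : ℕ) : ℝ) ≤
      ∑ ψ, ∑ m ∈ Finset.range (2 ^ k), ‖P m χ ψ‖ ^ 2 := by
    refine Finset.sum_le_sum fun ψ _ => (h.le_row hM hζ ψ hχ).trans (le_of_eq ?_)
    exact Finset.sum_congr rfl fun m _ => by rw [h.norm_symm]
  rw [Finset.sum_comm, h.sum_self hζ χ, ← Finset.sum_mul] at h1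
  have h2 : (∑ ψ, (4 : ℝ) ^ ht ψ) * ((2 ^ k : ℕ) : ℝ) ≤
      ((2 : ℝ) ^ d * (a χ χ 0 : ℝ)) * ((2 ^ k : ℕ) : ℝ) := by
    refine h1.trans (le_of_eq ?_)
    ring
  have h3 := le_of_mul_le_mul_right h2 hN
  exact_mod_cast h3

theorem pos (hM : IsPModular 2 M) (hζ : IsPrimitiveRoot ζ (2 ^ (k + 1)))
    (h : Proj M ζ k d ht P a r) (h0 : ∃ ψ, ht ψ = 0) (χ : ι) : 0 < a χ χ 0 := by
  obtain ⟨ψ, hψ⟩ := h0
  have hN : (0 : ℝ) < ((2 ^ k : ℕ) : ℝ) := by positivity
  have h1 := h.le_row hM hζ χ hψ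
  have h2 : ∑ m ∈ Finset.range (2 ^ k), ‖P m χ ψ‖ ^ 2 ≤
      ∑ m ∈ Finset.range (2 ^ k), ∑ ψ, ‖P m χ ψ‖ ^ 2 :=
    Finset.sum_le_sum fun m _ => Finset.single_le_sum (f := fun ψ => ‖P m χ ψ‖ ^ 2)
      (fun _ _ => by positivity) (Finset.mem_univ ψ)
  rw [h.sum_self hζ χ] at h2
  have h3 : (0 : ℝ) < (4 : ℝ) ^ ht χ * ((2 ^ k : ℕ) : ℝ) := by positivity
  have h4 : (0 : ℝ) < (2 : ℝ) ^ d * (((2 ^ k : ℕ) : ℝ) * (a χ χ 0 : ℝ)) := by linarith
  have h5 : (0 : ℝ) < ((2 ^ k : ℕ) : ℝ) * (a χ χ 0 : ℝ) := pos_of_mul_pos_right h4 (by positivity)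
  have h6 : (0 : ℝ) < (a χ χ 0 : ℝ) := pos_of_mul_pos_right h5 hN.le
  exact_mod_cast h6

theorem le (hζ : IsPrimitiveRoot ζ (2 ^ (k + 1))) (h : Proj M ζ k d ht P a r) (χ : ι) :
    a χ χ 0 ≤ 2 ^ d := by
  have hN : (0 : ℝ) < ((2 ^ k : ℕ) : ℝ) := by positivity
  have hre : ∀ m, ∃ x : ℝ, 0 ≤ x ∧ P m χ χ = x ∧ x ≤ 2 ^ d := by
    intro m
    have h1 := h.self_eq m χ
    refine ⟨(∑ ψ, ‖P m χ ψ‖ ^ 2) / 2 ^ d, by positivity, ?_, ?_⟩
    · have : (2 : ℂ) ^ d ≠ 0 := pow_ne_zero _ two_ne_zero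
      push_cast at h1 ⊢
      rw [← h1]
      field_simp
    · set x : ℝ := (∑ ψ, ‖P m χ ψ‖ ^ 2) / 2 ^ d with hx
      have h2 : P m χ χ = x := by
        have : (2 : ℂ) ^ d ≠ 0 := pow_ne_zero _ two_ne_zero
        rw [hx]
        push_cast at h1 ⊢
        rw [← h1]
        field_simp
      have hx0 : 0 ≤ x := by positivity
      have h3 : ‖P m χ χ‖ ^ 2 ≤ ∑ ψ, ‖P m χ ψ‖ ^ 2 :=
        Finset.single_le_sum (f := fun ψ => ‖P m χ ψ‖ ^ 2)
          (fun _ _ => by positivity) (Finset.mem_univ χ)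
      have h4 : ∑ ψ, ‖P m χ ψ‖ ^ 2 = 2 ^ d * x := by
        rw [hx]
        field_simp
      rw [h4, h2, Complex.norm_real, Real.norm_of_nonneg hx0] at h3
      by_contra hlt
      push Not at hlt
      have : (0 : ℝ) < 2 ^ d := by positivity
      nlinarith
  choose x hx0 hx hxle using hre
  have h1 := sum_valA hζ (a χ χ)
  have h2 : ∑ m ∈ Finset.range (2 ^ k), (x m : ℂ) = (2 ^ k : ℕ) * (a χ χ 0 : ℂ) := by
    rw [← h1]
    exact Finset.sum_congr rfl fun m _ => by rw [← hx, h.coords m χ χ]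
  have h3 : ∑ m ∈ Finset.range (2 ^ k), x m = (2 ^ k : ℕ) * (a χ χ 0 : ℝ) := by
    exact_mod_cast h2
  have h4 : ∑ m ∈ Finset.range (2 ^ k), x m ≤ ∑ m ∈ Finset.range (2 ^ k), (2 : ℝ) ^ d :=
    Finset.sum_le_sum fun m _ => hxle m
  rw [h3, Finset.sum_const, Finset.card_range, nsmul_eq_mul] at h4
  have h5 := le_of_mul_le_mul_left h4 hN
  exact_mod_cast h5

theorem odd (hM : IsPModular 2 M) (hζ : IsPrimitiveRoot ζ (2 ^ (k + 1)))
    (h : Proj M ζ k d ht P a r) {χ : ι} (hχ : ht χ = 0) : ¬ (2 : ℤ) ∣ a χ χ 0 := by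
  have := isPrime_of_isPModular hM
  have h0 : P 0 χ χ = valA ζ (2 ^ k) (a χ χ) 1 := h.coords 0 χ χ
  have h1 := h.ring χ χ hχ
  have h2 := h.unit χ χ hχ
  have h3 := h.herm 0 χ χ
  rw [h0] at h1 h2 h3
  obtain ⟨b, hb, hb'⟩ := exists_avg hM hζ h1 h3
  rw [hχ, pow_zero, one_mul] at hb
  intro hdvd
  rw [hb] at hdvd
  have h4 : MemLocalIdeal M (b : ℂ) := (memLocalIdeal_intCast_iff hM b).2 (by exact_mod_cast hdvd)
  exact h2 ((memLocalIdeal_iff_of_sub hb').2 h4)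

theorem dvd (hM : IsPModular 2 M) (hζ : IsPrimitiveRoot ζ (2 ^ (k + 1)))
    (h : Proj M ζ k d ht P a r) {χ : ι} (hχ : ht χ ≠ 0) : (2 : ℤ) ^ (ht χ + 1) ∣ a χ χ 0 := by
  have := isPrime_of_isPModular hM
  have h0 : P 0 χ χ = valA ζ (2 ^ k) (a χ χ) 1 := h.coords 0 χ χ
  have h1 := h.self χ hχ
  have h3 := h.herm 0 χ χ
  rw [h0] at h1 h3
  obtain ⟨b, hb, hb'⟩ := exists_avg hM hζ (memLocalRing_of_memLocalIdeal h1) h3
  have h4 : MemLocalIdeal M (b : ℂ) := (memLocalIdeal_iff_of_sub hb').1 h1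
  have h5 : (2 : ℤ) ∣ b := by exact_mod_cast (memLocalIdeal_intCast_iff hM b).1 h4
  obtain ⟨c, rfl⟩ := h5
  exact ⟨c, by rw [hb]; ring⟩

theorem ht_lt (hM : IsPModular 2 M) (hζ : IsPrimitiveRoot ζ (2 ^ (k + 1)))
    (h : Proj M ζ k d ht P a r) (h0 : ∃ ψ, ht ψ = 0) {χ : ι} (hχ : ht χ ≠ 0) : ht χ < d := by
  have h1 := Int.le_of_dvd (h.pos hM hζ h0 χ) (h.dvd hM hζ hχ)
  have h2 := h1.trans (h.le hζ χ)
  have h3 : (2 : ℕ) ^ (ht χ + 1) ≤ 2 ^ d := by exact_mod_cast h2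
  exact (Nat.pow_le_pow_iff_right (by norm_num)).1 h3

theorem sum_t (hζ : IsPrimitiveRoot ζ (2 ^ (k + 1)))
    (h : Proj M ζ k d ht P a r) : ∑ χ, a χ χ 0 = 2 ^ d * r := by
  have hN : ((2 ^ k : ℕ) : ℂ) ≠ 0 := by
    exact_mod_cast (pow_pos (by norm_num) k : 0 < 2 ^ k).ne'
  have h1 : ∑ χ, ((2 ^ k : ℕ) : ℂ) * (a χ χ 0 : ℂ) = ((2 ^ k : ℕ) : ℂ) * (2 ^ d * r) := by
    calc ∑ χ, ((2 ^ k : ℕ) : ℂ) * (a χ χ 0 : ℂ)
        = ∑ χ, ∑ m ∈ Finset.range (2 ^ k), P m χ χ := by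
          refine Finset.sum_congr rfl fun χ _ => ?_
          rw [← sum_valA hζ (a χ χ)]
          exact Finset.sum_congr rfl fun m _ => (h.coords m χ χ).symm
      _ = ∑ m ∈ Finset.range (2 ^ k), ((2 : ℂ) ^ d * r) := by
          rw [Finset.sum_comm]
          exact Finset.sum_congr rfl fun m _ => h.trace m
      _ = _ := by
          rw [Finset.sum_const, Finset.card_range, nsmul_eq_mul]
  rw [← Finset.mul_sum] at h1
  have h2 := mul_left_cancel₀ hN h1
  exact_mod_cast h2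

/-- The dichotomy. -/
theorem main (hM : IsPModular 2 M) (hζ : IsPrimitiveRoot ζ (2 ^ (k + 1)))
    (h : Proj M ζ k d ht P a r) (h0 : ∃ ψ, ht ψ = 0) (hr : r ≤ 3) :
    ∑ ψ, (4 : ℤ) ^ ht ψ ≤ 2 ^ d ∨
      ∑ ψ, (if ht ψ = 0 then 3 else 2 ^ (ht ψ + 1) : ℤ) ≤ 3 * 2 ^ d := by
  by_cases h1 : ∃ χ, ht χ = 0 ∧ a χ χ 0 = 1
  · obtain ⟨χ, hχ, hχ1⟩ := h1
    left
    have := h.row_bound hM hζ hχ
    rwa [hχ1, mul_one] at this
  · right
    push Not at h1
    have h2 : ∑ ψ, (if ht ψ = 0 then 3 else 2 ^ (ht ψ + 1) : ℤ) ≤ ∑ χ, a χ χ 0 := by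
      refine Finset.sum_le_sum fun χ _ => ?_
      have hpos := h.pos hM hζ h0 χ
      split_ifs with hχ
      · have h3 := h.odd hM hζ hχ
        have h4 := h1 χ hχ
        omega
      · exact Int.le_of_dvd hpos (h.dvd hM hζ hχ)
    rw [h.sum_t hζ] at h2
    refine h2.trans ?_
    have : (0 : ℤ) < 2 ^ d := by positivity
    nlinarith

/-- The complementary family. -/
theorem compl [DecidableEq ι] (hM : IsPModular 2 M) (hζ : IsPrimitiveRoot ζ (2 ^ (k + 1)))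
    (h : Proj M ζ k d ht P a r) (h0 : ∃ ψ, ht ψ = 0) (hd : d ≠ 0) :
    Proj M ζ k d ht (fun m χ ψ => (if χ = ψ then (2 : ℂ) ^ d else 0) - P m χ ψ)
      (fun χ ψ e => (if χ = ψ then (if e = 0 then 2 ^ d else 0) else 0) - a χ ψ e)
      (Fintype.card ι - r) := by
  have := isPrime_of_isPModular hM
  refine ⟨?_, ?_, ?_, ?_, ?_, ?_, ?_⟩
  · intro m χ ψ
    have hpos : 0 < 2 ^ k := pow_pos (by norm_num) k
    rw [h.coords m χ ψ, valA_def, valA_def]
    simp only [Int.cast_sub, sub_mul, Finset.sum_sub_distrib]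
    congr 1
    by_cases hχψ : χ = ψ
    · rw [if_pos hχψ, Finset.sum_eq_single 0]
      · simp [hχψ]
      · intro e _ he
        simp [he]
      · intro h
        exact absurd (Finset.mem_range.2 hpos) h
    · rw [if_neg hχψ]
      symm
      refine Finset.sum_eq_zero fun e _ => ?_
      simp [hχψ]
  · intro m χ ψ
    rw [map_sub, h.herm m χ ψ]
    by_cases hχψ : χ = ψ
    · subst hχψ
      rw [if_pos rfl, map_pow, Complex.conj_ofNat]
    · rw [if_neg hχψ, if_neg (fun h => hχψ h.symm), map_zero]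
  · intro m χ χ'
    have h1 : ∀ ψ, ((if χ = ψ then (2 : ℂ) ^ d else 0) - P m χ ψ) *
        ((if ψ = χ' then (2 : ℂ) ^ d else 0) - P m ψ χ') =
        (if χ = ψ then (2 : ℂ) ^ d * (if ψ = χ' then (2 : ℂ) ^ d else 0) else 0) -
        (if χ = ψ then (2 : ℂ) ^ d * P m ψ χ' else 0) -
        (if ψ = χ' then P m χ ψ * 2 ^ d else 0) + P m χ ψ * P m ψ χ' := by
      intro ψ
      split_ifs <;> ring
    rw [Finset.sum_congr rfl (fun ψ _ => h1 ψ), Finset.sum_add_distrib, Finset.sum_sub_distrib,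
      Finset.sum_sub_distrib, h.idem m χ χ', Finset.sum_ite_eq, Finset.sum_ite_eq,
      Finset.sum_ite_eq', if_pos (Finset.mem_univ _), if_pos (Finset.mem_univ _),
      if_pos (Finset.mem_univ _)]
    ring
  · intro m
    rw [Finset.sum_sub_distrib, h.trace m]
    simp only [if_true, Finset.sum_const, Finset.card_univ, nsmul_eq_mul]
    push_cast
    ring
  · intro χ ψ hψ
    by_cases hχψ : χ = ψ
    · subst hχψ
      rw [if_pos rfl, sub_div]
      refine memLocalRing_sub ?_ (h.ring χ χ hψ)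
      rw [hψ, pow_zero, div_one]
      exact memLocalRing_of_isIntegral (by
        have := isIntegral_algebraMap (R := ℤ) (A := ℂ) (x := (2 : ℤ) ^ d)
        simpa using this)
    · rw [if_neg hχψ, zero_sub, neg_div]
      exact memLocalRing_neg (h.ring χ ψ hψ)
  · intro χ ψ hψ hcon
    by_cases hχψ : χ = ψ
    · subst hχψ
      rw [if_pos rfl, sub_div] at hcon
      have h2 : MemLocalIdeal M ((2 : ℂ) ^ d / 2 ^ ht χ) := by
        rw [hψ, pow_zero, div_one]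
        exact memLocalIdeal_pow (by exact_mod_cast memLocalIdeal_p hM) hd
      have h3 := memLocalIdeal_sub h2 hcon
      rw [sub_sub_cancel] at h3
      exact h.unit χ χ hψ h3
    · rw [if_neg hχψ, zero_sub, neg_div] at hcon
      have h3 := memLocalIdeal_neg hcon
      rw [neg_neg] at h3
      exact h.unit χ ψ hψ h3
  · intro χ hχ
    rw [if_pos rfl, sub_div]
    refine memLocalIdeal_sub ?_ (h.self χ hχ)
    have h1 := h.ht_lt hM hζ h0 hχ
    have h2 : (2 : ℂ) ^ d / 2 ^ ht χ = 2 ^ (d - ht χ) := by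
      rw [div_eq_iff (pow_ne_zero _ two_ne_zero), ← pow_add, Nat.sub_add_cancel h1.le]
    rw [h2]
    exact memLocalIdeal_pow (by exact_mod_cast memLocalIdeal_p hM) (by omega)

end Proj

end Cfsg.Agent.H624.MajTwo
end

-- part: H624/MajTwoB
section
/-!
# The contribution matrices of a major subsection of a 2-block

`exists_proj`: they satisfy the hypotheses of `MajTwo.Proj`.
-/

set_option autoImplicit false

open Cfsg
open scoped ComplexConjugate

namespace Cfsg.Agent.H624.MajTwo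

open Cfsg.Agent.Blocks.Local Cfsg.Agent.Blocks.Blau Cfsg.Agent.Characters
open Cfsg.Agent.H613.RegGram Cfsg.Agent.H613.Contrib Cfsg.Agent.H613.ContribVal
open Cfsg.Agent.H624.TTwo Cfsg.Agent.H624.MajVal

variable {G : Type*} [Group G] {M : Ideal AlgInt}

/-- Coordinates of the contributions. -/
theorem exists_contr_coords [Finite G] {H : Subgroup G} [Fintype H] [Fintype (IrrCharacter H)]
    {z : G} {k : ℕ} {n : IrrCharacter G → IrrCharacter H → ℕ} {e : IrrCharacter H → ℂ}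
    {b : Set (IrrCharacter H)} [Fintype b] {ζ : ℂ} (hM : IsPModular 2 M)
    (hE : Exp z H (2 ^ (k + 1)) n e) (hb : IsPBlock M b) (hζ : IsPrimitiveRoot ζ (2 ^ (k + 1)))
    (hcent : ∀ m : ℕ, H = Subgroup.centralizer ({z ^ (2 * m + 1)} : Set G))
    (χ ψ : IrrCharacter G) :
    ∃ a : ℕ → ℤ, ∀ m : ℕ, (2 : ℂ) ^ blockDefect 2 b *
      contr 2 (z ^ (2 * m + 1)) b (χ : G → ℂ) (ψ : G → ℂ) = valA ζ (2 ^ k) a (2 * m + 1) := by
  classical
  have hK : ∀ x : b × b, ∃ K : ℤ, (2 : ℂ) ^ blockDefect 2 b *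
      rg 2 ((x.1 : IrrCharacter H) : H → ℂ) ((x.2 : IrrCharacter H) : H → ℂ) = K := by
    intro x
    obtain ⟨K, hK⟩ := exists_int_rg (p := 2) hM x.1.2 (x.2 : IrrCharacter H)
    exact ⟨K, by exact_mod_cast hK⟩
  choose K hK using hK
  obtain ⟨a, ha⟩ := exists_coords hζ (Finset.univ : Finset (b × b))
    (fun x => (n χ x.1 : ℤ) * (n ψ x.2 : ℤ) * K x) (fun x => e x.1 * conj (e x.2)) (by
      intro x _
      rw [mul_pow, hE.root, one_mul, ← map_pow, hE.root, map_one])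
  refine ⟨a, fun m => ?_⟩
  rw [← ha m, contr_eq_sum hM hE hb χ ψ (hcent m), Finset.mul_sum, Fintype.sum_prod_type]
  refine Finset.sum_congr rfl fun ξ _ => ?_
  rw [Finset.mul_sum]
  refine Finset.sum_congr rfl fun η _ => ?_
  have h1 := hK (ξ, η)
  simp only at h1
  push_cast
  rw [← h1]
  ring

/-- The family of contribution matrices. -/
theorem exists_proj [Finite G] (hM : IsPModular 2 M) {B : Set (IrrCharacter G)}
    (hB : IsPBlock M B) {D : Subgroup G} (hD : IsDefectGroup 2 M B D) {z : G} (hzD : z ∈ D)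
    (hzc : ∀ d ∈ D, d * z = z * d) {H : Subgroup G} (hH : H = Subgroup.centralizer ({z} : Set G))
    {b : Set (IrrCharacter H)} (hb : IsInducedBlock M H b B)
    (hbD : IsDefectGroup 2 M b (D.subgroupOf H)) [Fintype B] :
    ∃ (ζ : ℂ) (k : ℕ) (P : ℕ → B → B → ℂ) (a : B → B → ℕ → ℤ),
      IsPrimitiveRoot ζ (2 ^ (k + 1)) ∧
      Proj M ζ k (blockDefect 2 B) (fun χ : B => blockHeight 2 B ((χ : IrrCharacter G) : G → ℂ))
        P a (blockRank 2 b) := by
  classical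
  have : Fact (Nat.Prime 2) := ⟨Nat.prime_two⟩
  have := isPrime_of_isPModular hM
  have := Fintype.ofFinite G
  have := Fintype.ofFinite H
  have := Core.finite_irr (G := H)
  have := Fintype.ofFinite (IrrCharacter H)
  have : Fintype b := Fintype.ofFinite b
  -- `z` is a 2-element
  obtain ⟨k₀, hk₀⟩ := (Cfsg.Agent.Blocks.Basic.isPGroup_of_isDefectGroup hD) ⟨z, hzD⟩
  have hz0 : z ^ 2 ^ k₀ = 1 := by
    have := congrArg Subtype.val hk₀
    simpa using this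
  set k := k₀ with hk
  have hz : z ^ 2 ^ (k + 1) = 1 := by rw [pow_succ, pow_mul, hz0, one_pow]
  have hord : ∀ {v : G}, v ^ 2 ^ (k + 1) = 1 → ∃ i : ℕ, orderOf v = 2 ^ i := by
    intro v hv
    obtain ⟨i, -, hi⟩ := (Nat.dvd_prime_pow Nat.prime_two).1 (orderOf_dvd_of_pow_eq_one hv)
    exact ⟨i, hi⟩
  have hzm : ∀ m : ℕ, (z ^ (2 * m + 1)) ^ 2 ^ (k + 1) = 1 := by
    intro m
    rw [← pow_mul, mul_comm, pow_mul, hz, one_pow]
  have hcent : ∀ m : ℕ, H = Subgroup.centralizer ({z ^ (2 * m + 1)} : Set G) := by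
    intro m
    rw [hH]
    refine (Cfsg.Agent.Blocks.GaloisConj.centralizer_pow_eq hz ?_).symm
    refine Nat.Coprime.pow_right _ ?_
    simp
  have hζ : IsPrimitiveRoot (Complex.exp (2 * Real.pi * Complex.I / ((2 ^ (k + 1) : ℕ) : ℂ)))
      (2 ^ (k + 1)) := Complex.isPrimitiveRoot_exp _ (by positivity)
  set ζ := Complex.exp (2 * Real.pi * Complex.I / ((2 ^ (k + 1) : ℕ) : ℂ)) with hζdef
  obtain ⟨n, e, hE⟩ := exists_exp hH hz
  have hd : blockDefect 2 b = blockDefect 2 B := by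
    have h1 := Cfsg.Agent.S0908.result 2 M hM b hb.1 _ hbD
    have h2 := Cfsg.Agent.S0908.result 2 M hM B hB D hD
    have hle : D ≤ H := by
      intro w hw
      rw [hH, Subgroup.mem_centralizer_singleton_iff]
      exact hzc w hw
    have h3 : Nat.card (D.subgroupOf H) = Nat.card D :=
      Nat.card_congr (Subgroup.subgroupOfEquivOfLe hle).toEquiv
    rw [h1, h2] at h3
    exact Nat.pow_right_injective le_rfl h3
  choose a ha using fun (χ ψ : B) => exists_contr_coords hM hE hb.1 hζ hcent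
    (χ : IrrCharacter G) (ψ : IrrCharacter G)
  refine ⟨ζ, k, fun m χ ψ => (2 : ℂ) ^ blockDefect 2 B *
    contr 2 (z ^ (2 * m + 1)) b ((χ : IrrCharacter G) : G → ℂ) ((ψ : IrrCharacter G) : G → ℂ),
    a, hζ, ?_⟩
  refine ⟨?_, ?_, ?_, ?_, ?_, ?_, ?_⟩
  · intro m χ ψ
    rw [← ha χ ψ m, hd]
  · intro m χ ψ
    rw [map_mul, conj_contr, map_pow, Complex.conj_ofNat]
  · intro m χ χ'
    have h1 := sum_contr_mul_contr hM (hord (hzm m)) (hcent m) hb
      (χ := ((χ : IrrCharacter G) : G → ℂ)) (χ' := ((χ' : IrrCharacter G) : G → ℂ))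
      (Core.isIrr_isClassFunction (χ : IrrCharacter G).2)
    rw [← h1, Finset.mul_sum, Finset.mul_sum]
    exact Finset.sum_congr rfl fun ψ _ => by ring
  · intro m
    rw [← Finset.mul_sum, sum_contr_self hM (hord (hzm m)) (hcent m) hb]
    push_cast
    rfl
  · intro χ ψ _
    have h1 := memLocalRing_contr_div hM hE (hord hz) hb hd (ψ := (ψ : IrrCharacter G)) χ.2
      (hcent 0)
    exact_mod_cast h1
  · intro χ ψ hψ
    have h1 := not_memLocalIdeal_contr_div hM hE (hord hz) hb hd χ.2 ψ.2 hψ (hcent 0)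
    exact_mod_cast h1
  · intro χ hχ
    have h1 := memLocalIdeal_contr_self_div hM hE (hord hz) hb hd χ.2 hχ (hcent 0)
    exact_mod_cast h1

end Cfsg.Agent.H624.MajTwo
end
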