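import Mathlib
import Cfsg.Agent.H616.FormBd
import Cfsg.Agent.H616.MajorTwo
import Cfsg.Agent.H644.CentralQuot
import Cfsg.Agent.H658.Domin
import Cfsg.Agent.H809.OddAct
import Cfsg.Agent.H639.Conn
import Cfsg.Agent.H645.FusCount
import Cfsg.Agent.H641.Inertial
import Cfsg.Agent.H641.CycAct
import Cfsg.Agent.H617.AbelRank
import Cfsg.Agent.S4733
import Cfsg.Agent.S0908
import Cfsg.Agent.H617.StarAut
import Cfsg.Agent.S4552
import Cfsg.Agent.H658.Major
import Cfsg.Agent.S0973
import Cfsg.Agent.S4540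
import Cfsg.Agent.H617.SmallRank
set_option linter.all false

-- part: H616/FormAvg
section
/-!
# Averages over the Galois group of a cyclotomic field of prime power conductor

`avg_ge`: for vectors `F k = ∑ m ξ * e ξ ^ k • T ξ` with integers `m ξ`, roots of unity `e ξ` of
order dividing `p ^ (j + 1)` and real vectors `T ξ` such that integral combinations of the `T ξ`
which are not relations have norm at least one, the average of `‖F v‖ ^ 2` over the units `v` modulo
`p ^ (j + 1)` is at least one, if `F 1` is not a relation.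
-/

set_option autoImplicit false
set_option linter.unusedSectionVars false

open scoped ComplexConjugate

namespace Cfsg.Agent.H616.FormAvg

section units

variable {p j : ℕ} [hp : Fact p.Prime]

/-- Sums over the units modulo `p ^ (j + 1)`. -/
theorem sum_units (f : ℕ → ℂ) :
    ∑ v : (ZMod (p ^ (j + 1)))ˣ, f (v : ZMod (p ^ (j + 1))).val =
      ∑ k ∈ Finset.range (p ^ (j + 1)), f k - ∑ k ∈ Finset.range (p ^ j), f (p * k) := by
  have hp0 : 0 < p := hp.out.pos
  have : NeZero (p ^ (j + 1)) := ⟨pow_ne_zero _ hp0.ne'⟩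
  have h1 : ∑ k ∈ Finset.range (p ^ j), f (p * k) =
      ∑ k ∈ (Finset.range (p ^ (j + 1))).filter (fun k => ¬ k.Coprime (p ^ (j + 1))), f k := by
    refine Finset.sum_bij (fun k _ => p * k) ?_ ?_ ?_ ?_
    · intro k hk
      rw [Finset.mem_filter, Finset.mem_range]
      refine ⟨?_, ?_⟩
      · rw [pow_succ, mul_comm]
        exact Nat.mul_lt_mul_of_pos_right (Finset.mem_range.1 hk) hp0
      · rw [Nat.coprime_pow_right_iff (Nat.succ_pos j), Nat.coprime_comm,
          hp.out.coprime_iff_not_dvd]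
        exact fun h => h (dvd_mul_right p k)
    · intro k _ k' _ h
      exact Nat.eq_of_mul_eq_mul_left hp0 h
    · intro k hk
      rw [Finset.mem_filter, Finset.mem_range, Nat.coprime_pow_right_iff (Nat.succ_pos j),
        Nat.coprime_comm, hp.out.coprime_iff_not_dvd, not_not] at hk
      obtain ⟨k', rfl⟩ := hk.2
      refine ⟨k', ?_, rfl⟩
      rw [Finset.mem_range]
      have h2 := hk.1
      rw [pow_succ, mul_comm (p ^ j)] at h2
      exact Nat.lt_of_mul_lt_mul_left h2
    · intro k _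
      rfl
  have h2 : ∑ v : (ZMod (p ^ (j + 1)))ˣ, f (v : ZMod (p ^ (j + 1))).val =
      ∑ k ∈ (Finset.range (p ^ (j + 1))).filter (fun k => k.Coprime (p ^ (j + 1))), f k := by
    refine Finset.sum_bij (fun v _ => (v : ZMod (p ^ (j + 1))).val) ?_ ?_ ?_ ?_
    · intro v _
      rw [Finset.mem_filter, Finset.mem_range]
      exact ⟨ZMod.val_lt _, ZMod.val_coe_unit_coprime v⟩
    · intro v _ v' _ h
      exact Units.ext (ZMod.val_injective _ h)
    · intro k hk
      rw [Finset.mem_filter, Finset.mem_range] at hk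
      refine ⟨ZMod.unitOfCoprime k hk.2, Finset.mem_univ _, ?_⟩
      rw [ZMod.coe_unitOfCoprime, ZMod.val_natCast, Nat.mod_eq_of_lt hk.1]
    · intro v _
      rfl
  rw [h1, h2, eq_sub_iff_add_eq, Finset.sum_filter_add_sum_filter_not]

theorem sum_pow_range {q : ℕ} {z : ℂ} (hz : z ^ q = 1) :
    ∑ k ∈ Finset.range q, z ^ k = if z = 1 then (q : ℂ) else 0 := by
  split_ifs with h
  · subst h
    simp
  · have h1 := mul_geom_sum z q
    rw [hz, sub_self] at h1
    exact (mul_eq_zero.1 h1).resolve_left (sub_ne_zero.2 h)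

/-- Ramanujan sums. -/
theorem sum_units_pow {z : ℂ} (hz : z ^ p ^ (j + 1) = 1) :
    ∑ v : (ZMod (p ^ (j + 1)))ˣ, z ^ (v : ZMod (p ^ (j + 1))).val =
      (if z = 1 then ((p : ℂ) ^ (j + 1)) else 0) - if z ^ p = 1 then ((p : ℂ) ^ j) else 0 := by
  rw [sum_units (fun k => z ^ k), sum_pow_range hz]
  have h1 : ∀ k, z ^ (p * k) = (z ^ p) ^ k := fun k => pow_mul z p k
  simp only [h1]
  rw [sum_pow_range (by rw [← pow_mul, mul_comm, ← pow_succ]; exact hz)]
  push_cast
  rfl

end units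

section roots

variable {p j : ℕ} [hp : Fact p.Prime] {ζ : ℂ} (hζ : IsPrimitiveRoot ζ (p ^ (j + 1)))

/-- The roots of unity indexed by their classes modulo the `p`-th roots of unity. -/
noncomputable def rt (p j : ℕ) (ζ : ℂ) (x : Fin (p ^ j) × Fin p) : ℂ :=
  ζ ^ ((x.1 : ℕ) + p ^ j * (x.2 : ℕ))

include hζ

omit hp in
theorem rt_pow (x : Fin (p ^ j) × Fin p) : rt p j ζ x ^ p ^ (j + 1) = 1 := by
  rw [rt, ← pow_mul, mul_comm, pow_mul, hζ.pow_eq_one, one_pow]

omit hp in
theorem lt_card (x : Fin (p ^ j) × Fin p) : (x.1 : ℕ) + p ^ j * (x.2 : ℕ) < p ^ (j + 1) := by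
  have h1 := x.1.2
  have h2 := x.2.2
  calc (x.1 : ℕ) + p ^ j * (x.2 : ℕ) < p ^ j + p ^ j * (x.2 : ℕ) := by omega
    _ = p ^ j * ((x.2 : ℕ) + 1) := by ring
    _ ≤ p ^ j * p := Nat.mul_le_mul_left _ h2
    _ = p ^ (j + 1) := (pow_succ _ _).symm

omit hp in
theorem rt_injective : Function.Injective (rt p j ζ) := by
  intro x y h
  have h1 := hζ.pow_inj (lt_card hζ x) (lt_card hζ y) h
  have hx := x.1.2
  have hy := y.1.2
  have h2 : (x.1 : ℕ) = y.1 := by
    have h3 := congrArg (· % p ^ j) h1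
    simp only [Nat.add_mul_mod_self_left] at h3
    rwa [Nat.mod_eq_of_lt hx, Nat.mod_eq_of_lt hy] at h3
  have h4 : (x.2 : ℕ) = y.2 := by
    rw [h2] at h1
    have h5 := Nat.add_left_cancel h1
    exact Nat.eq_of_mul_eq_mul_left (lt_of_le_of_lt (Nat.zero_le _) hx) h5
  exact Prod.ext (Fin.ext h2) (Fin.ext h4)

theorem rt_pow_p (x : Fin (p ^ j) × Fin p) : rt p j ζ x ^ p = (ζ ^ p) ^ (x.1 : ℕ) := by
  have h1 : p ^ j * (x.2 : ℕ) * p = p ^ (j + 1) * (x.2 : ℕ) := by ring
  rw [rt, ← pow_mul, add_mul, pow_add, h1, pow_mul ζ (p ^ (j + 1)), hζ.pow_eq_one, one_pow,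
    mul_one, mul_comm, pow_mul]

theorem rt_pow_p_eq_iff (x y : Fin (p ^ j) × Fin p) :
    rt p j ζ x ^ p = rt p j ζ y ^ p ↔ x.1 = y.1 := by
  rw [rt_pow_p hζ, rt_pow_p hζ]
  have h1 : IsPrimitiveRoot (ζ ^ p) (p ^ j) :=
    hζ.pow (pow_pos hp.out.pos _) (by rw [pow_succ, mul_comm])
  refine ⟨fun h => Fin.ext (h1.pow_inj x.1.2 y.1.2 h), fun h => by rw [h]⟩

theorem exists_rt {z : ℂ} (hz : z ^ p ^ (j + 1) = 1) : ∃ x, rt p j ζ x = z := by
  have : NeZero (p ^ (j + 1)) := ⟨pow_ne_zero _ hp.out.ne_zero⟩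
  obtain ⟨i, hi, rfl⟩ := hζ.eq_pow_of_pow_eq_one hz
  have hpj : 0 < p ^ j := pow_pos hp.out.pos _
  refine ⟨(⟨i % p ^ j, Nat.mod_lt _ hpj⟩, ⟨i / p ^ j, ?_⟩), ?_⟩
  · rw [Nat.div_lt_iff_lt_mul hpj, mul_comm, ← pow_succ]
    exact hi
  · rw [rt]
    congr 1
    exact Nat.mod_add_div i (p ^ j)

theorem sum_rt (r : Fin (p ^ j)) : ∑ s : Fin p, rt p j ζ (r, s) = 0 := by
  have h1 : ∀ s : Fin p, rt p j ζ (r, s) = ζ ^ (r : ℕ) * (ζ ^ p ^ j) ^ (s : ℕ) := by
    intro s
    rw [rt, pow_add, pow_mul]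
  simp only [h1]
  rw [← Finset.mul_sum, Fin.sum_univ_eq_sum_range (fun s => (ζ ^ p ^ j) ^ s)]
  have h2 : IsPrimitiveRoot (ζ ^ p ^ j) p :=
    hζ.pow (pow_pos hp.out.pos _) (by rw [pow_succ])
  rw [h2.geom_sum_eq_zero hp.out.one_lt, mul_zero]

theorem norm_rt (x : Fin (p ^ j) × Fin p) : ‖rt p j ζ x‖ = 1 :=
  Complex.norm_eq_one_of_pow_eq_one (rt_pow hζ x) (pow_ne_zero _ hp.out.ne_zero)

theorem conj_rt (x : Fin (p ^ j) × Fin p) : conj (rt p j ζ x) = (rt p j ζ x)⁻¹ := by
  have h1 := norm_rt hζ x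
  rw [Complex.inv_def, Complex.normSq_eq_norm_sq, h1]
  simp

/-- Orthogonality over the units. -/
theorem sum_units_rt (x y : Fin (p ^ j) × Fin p) :
    ∑ v : (ZMod (p ^ (j + 1)))ˣ, rt p j ζ x ^ (v : ZMod (p ^ (j + 1))).val *
        conj (rt p j ζ y ^ (v : ZMod (p ^ (j + 1))).val) =
      (if x = y then ((p : ℂ) ^ (j + 1)) else 0) - if x.1 = y.1 then ((p : ℂ) ^ j) else 0 := by
  have hy0 : rt p j ζ y ≠ 0 := by
    intro h
    have := norm_rt hζ y
    rw [h, norm_zero] at this
    exact zero_ne_one this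
  have h1 : ∀ k : ℕ, rt p j ζ x ^ k * conj (rt p j ζ y ^ k) =
      (rt p j ζ x * (rt p j ζ y)⁻¹) ^ k := by
    intro k
    rw [map_pow, conj_rt hζ, ← mul_pow]
  simp only [h1]
  rw [sum_units_pow (by rw [mul_pow, inv_pow, rt_pow hζ, rt_pow hζ, inv_one, mul_one])]
  congr 1
  · refine if_congr ?_ rfl rfl
    rw [mul_inv_eq_one₀ hy0]
    exact (rt_injective hζ).eq_iff
  · refine if_congr ?_ rfl rfl
    rw [mul_pow, inv_pow, mul_inv_eq_one₀ (pow_ne_zero _ hy0)]
    exact rt_pow_p_eq_iff hζ x y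

/-- The sum over the units of the squares. -/
theorem sum_units_sq (g : Fin (p ^ j) × Fin p → ℝ) :
    ∑ v : (ZMod (p ^ (j + 1)))ˣ, ‖∑ x, (g x : ℂ) * rt p j ζ x ^ (v : ZMod (p ^ (j + 1))).val‖ ^ 2 =
      (p : ℝ) ^ j / 2 * ∑ r, ∑ s, ∑ s', (g (r, s) - g (r, s')) ^ 2 := by
  have h1 : ∀ z : ℂ, ((‖z‖ ^ 2 : ℝ) : ℂ) = z * conj z := fun z => by
    rw [Complex.mul_conj, Complex.normSq_eq_norm_sq]
  have h2 : ((∑ v : (ZMod (p ^ (j + 1)))ˣ,
      ‖∑ x, (g x : ℂ) * rt p j ζ x ^ (v : ZMod (p ^ (j + 1))).val‖ ^ 2 : ℝ) : ℂ) =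
      ∑ x, ∑ y, (g x : ℂ) * (g y : ℂ) *
        ((if x = y then ((p : ℂ) ^ (j + 1)) else 0) - if x.1 = y.1 then ((p : ℂ) ^ j) else 0) := by
    rw [Complex.ofReal_sum]
    simp only [h1, map_sum, Finset.sum_mul_sum]
    rw [Finset.sum_comm]
    refine Finset.sum_congr rfl fun x _ => ?_
    rw [Finset.sum_comm]
    refine Finset.sum_congr rfl fun y _ => ?_
    rw [← sum_units_rt hζ x y, Finset.mul_sum]
    refine Finset.sum_congr rfl fun v _ => ?_
    rw [map_mul, Complex.conj_ofReal]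
    ring
  have h3 : ∑ x, ∑ y, (g x : ℂ) * (g y : ℂ) *
        ((if x = y then ((p : ℂ) ^ (j + 1)) else 0) - if x.1 = y.1 then ((p : ℂ) ^ j) else 0) =
      ((∑ x, ∑ y, g x * g y *
        ((if x = y then ((p : ℝ) ^ (j + 1)) else 0) - if x.1 = y.1 then ((p : ℝ) ^ j) else 0) :
          ℝ) : ℂ) := by
    push_cast
    refine Finset.sum_congr rfl fun x _ => Finset.sum_congr rfl fun y _ => ?_
    split_ifs <;> push_cast <;> ring
  rw [h3] at h2
  have h4 := Complex.ofReal_injective h2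
  rw [h4]
  -- real computation
  have h5 : ∀ x : Fin (p ^ j) × Fin p, ∑ y, g x * g y *
      ((if x = y then ((p : ℝ) ^ (j + 1)) else 0) - if x.1 = y.1 then ((p : ℝ) ^ j) else 0) =
      (p : ℝ) ^ (j + 1) * g x ^ 2 - (p : ℝ) ^ j * ∑ s', g x * g (x.1, s') := by
    intro x
    simp only [mul_sub, Finset.sum_sub_distrib]
    congr 1
    · simp only [mul_ite, mul_zero]
      rw [Finset.sum_ite_eq Finset.univ x, if_pos (Finset.mem_univ _)]
      ring
    · rw [Fintype.sum_prod_type, Finset.sum_eq_single x.1]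
      · rw [Finset.mul_sum]
        refine Finset.sum_congr rfl fun s' _ => ?_
        rw [if_pos rfl]
        ring
      · intro r _ hr
        refine Finset.sum_eq_zero fun s' _ => ?_
        rw [if_neg (fun h => hr h.symm), mul_zero]
      · intro h
        exact absurd (Finset.mem_univ _) h
  rw [Finset.sum_congr rfl fun x _ => h5 x, Fintype.sum_prod_type, Finset.mul_sum]
  refine Finset.sum_congr rfl fun r _ => ?_
  have h6 : ∑ s, ∑ s', (g (r, s) - g (r, s')) ^ 2 =
      2 * p * ∑ s, g (r, s) ^ 2 - 2 * ∑ s, ∑ s', g (r, s) * g (r, s') := by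
    have h7 : ∀ s s', (g (r, s) - g (r, s')) ^ 2 =
        g (r, s) ^ 2 + g (r, s') ^ 2 - 2 * (g (r, s) * g (r, s')) := fun s s' => by ring
    simp only [h7, Finset.sum_sub_distrib, Finset.sum_add_distrib, ← Finset.mul_sum,
      Finset.sum_const, Finset.card_univ, Fintype.card_fin, nsmul_eq_mul]
    ring
  rw [h6, Finset.sum_sub_distrib, ← Finset.mul_sum, ← Finset.mul_sum, pow_succ]
  ring

end roots

/-- **The average.** -/
theorem avg_ge {p j : ℕ} [hp : Fact p.Prime] {X κ : Type*} [Fintype X] [Fintype κ]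
    (T : X → κ → ℝ) (m : X → ℤ) (e : X → ℂ) (he : ∀ ξ, e ξ ^ p ^ (j + 1) = 1)
    (R : (X → ℤ) → Prop) (hRsub : ∀ c d, R c → R d → R (c - d))
    (h1 : ∀ c, ¬ R c → 1 ≤ ∑ i, (∑ ξ, (c ξ : ℝ) * T ξ i) ^ 2)
    (D : X → ℤ) (hD : ∀ c, R c → ∑ ξ, c ξ * D ξ = 0)
    (hne : ∑ ξ, (m ξ : ℂ) * (D ξ : ℂ) * e ξ ≠ 0) :
    (Fintype.card (ZMod (p ^ (j + 1)))ˣ : ℝ) ≤ ∑ v : (ZMod (p ^ (j + 1)))ˣ,
      ∑ i, ‖∑ ξ, (m ξ : ℂ) * (T ξ i : ℂ) * e ξ ^ (v : ZMod (p ^ (j + 1))).val‖ ^ 2 := by
  classical
  have hp0 : 0 < p := hp.out.pos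
  have hq0 : p ^ (j + 1) ≠ 0 := pow_ne_zero _ hp0.ne'
  have hζ : IsPrimitiveRoot (Complex.exp (2 * Real.pi * Complex.I / ((p ^ (j + 1) : ℕ) : ℂ)))
      (p ^ (j + 1)) := Complex.isPrimitiveRoot_exp _ hq0
  set ζ := Complex.exp (2 * Real.pi * Complex.I / ((p ^ (j + 1) : ℕ) : ℂ)) with hζdef
  choose x hx using fun ξ => exists_rt hζ (he ξ)
  -- the parts
  let c : Fin (p ^ j) × Fin p → X → ℤ := fun y ξ => if x ξ = y then m ξ else 0
  let g : κ → Fin (p ^ j) × Fin p → ℝ := fun i y => ∑ ξ, (c y ξ : ℝ) * T ξ i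
  have hgroup : ∀ (f : X → ℂ), ∑ ξ, (m ξ : ℂ) * f ξ = ∑ y, ∑ ξ, (c y ξ : ℂ) * f ξ := by
    intro f
    rw [Finset.sum_comm]
    refine Finset.sum_congr rfl fun ξ _ => ?_
    rw [Finset.sum_eq_single (x ξ)]
    · simp only [c, if_pos]
    · intro y _ hy
      simp only [c, if_neg (fun h : x ξ = y => hy h.symm), Int.cast_zero, zero_mul]
    · intro h
      exact absurd (Finset.mem_univ _) h
  have hpart : ∀ (y : Fin (p ^ j) × Fin p) (f : X → ℂ) (k : ℕ),
      ∑ ξ, (c y ξ : ℂ) * (f ξ * e ξ ^ k) = (∑ ξ, (c y ξ : ℂ) * f ξ) * rt p j ζ y ^ k := by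
    intro y f k
    rw [Finset.sum_mul]
    refine Finset.sum_congr rfl fun ξ _ => ?_
    by_cases h : x ξ = y
    · rw [← hx ξ, h]
      ring
    · simp only [c, if_neg h, Int.cast_zero, zero_mul]
  -- the sum
  have hsum : ∀ (i : κ), ∑ v : (ZMod (p ^ (j + 1)))ˣ,
      ‖∑ ξ, (m ξ : ℂ) * (T ξ i : ℂ) * e ξ ^ (v : ZMod (p ^ (j + 1))).val‖ ^ 2 =
      (p : ℝ) ^ j / 2 * ∑ r, ∑ s, ∑ s', (g i (r, s) - g i (r, s')) ^ 2 := by
    intro i
    rw [← sum_units_sq hζ (g i)]
    refine Finset.sum_congr rfl fun v _ => ?_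
    congr 2
    have h2 := hgroup (fun ξ => (T ξ i : ℂ) * e ξ ^ (v : ZMod (p ^ (j + 1))).val)
    simp only [← mul_assoc] at h2
    rw [h2]
    refine Finset.sum_congr rfl fun y _ => ?_
    have h3 := hpart y (fun ξ => (T ξ i : ℂ)) (v : ZMod (p ^ (j + 1))).val
    simp only [← mul_assoc] at h3
    rw [h3]
    congr 1
    simp only [g]
    push_cast
    rfl
  rw [Finset.sum_comm, Finset.sum_congr rfl fun i _ => hsum i, ← Finset.mul_sum]
  -- an inequivalent pair
  obtain ⟨r₀, s₀, s₁, hrs⟩ : ∃ r s s', ¬ R (c (r, s) - c (r, s')) := by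
    by_contra hcon
    push Not at hcon
    apply hne
    have h2 : ∀ r s s', ∑ ξ, c (r, s) ξ * D ξ = ∑ ξ, c (r, s') ξ * D ξ := by
      intro r s s'
      have h3 := hD _ (hcon r s s')
      simp only [Pi.sub_apply, sub_mul, Finset.sum_sub_distrib] at h3
      exact sub_eq_zero.1 h3
    have h3 := hgroup (fun ξ => (D ξ : ℂ) * e ξ)
    simp only [← mul_assoc] at h3
    rw [h3]
    have h4 : ∀ y, ∑ ξ, (c y ξ : ℂ) * (D ξ : ℂ) * e ξ =
        ((∑ ξ, c y ξ * D ξ : ℤ) : ℂ) * rt p j ζ y := by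
      intro y
      have h5 := hpart y (fun ξ => (D ξ : ℂ)) 1
      simp only [pow_one, ← mul_assoc] at h5
      rw [h5]
      push_cast
      rfl
    rw [Finset.sum_congr rfl fun y _ => h4 y, Fintype.sum_prod_type]
    refine Finset.sum_eq_zero fun r _ => ?_
    have h5 : ∀ s : Fin p, ((∑ ξ, c (r, s) ξ * D ξ : ℤ) : ℂ) * rt p j ζ (r, s) =
        ((∑ ξ, c (r, ⟨0, hp0⟩) ξ * D ξ : ℤ) : ℂ) * rt p j ζ (r, s) := by
      intro s
      rw [h2 r s ⟨0, hp0⟩]
    rw [Finset.sum_congr rfl fun s _ => h5 s, ← Finset.mul_sum, sum_rt hζ, mul_zero]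
  -- norms of differences
  let N : Fin p → Fin p → ℝ := fun s s' => ∑ i, (g i (r₀, s) - g i (r₀, s')) ^ 2
  have hN0 : ∀ s s', 0 ≤ N s s' := fun s s' => Finset.sum_nonneg fun i _ => sq_nonneg _
  have hN1 : ∀ s s', ¬ R (c (r₀, s) - c (r₀, s')) → 1 ≤ N s s' := by
    intro s s' h
    have h2 := h1 _ h
    refine h2.trans (le_of_eq ?_)
    refine Finset.sum_congr rfl fun i _ => ?_
    congr 1
    simp only [g, Pi.sub_apply]
    rw [← Finset.sum_sub_distrib]
    refine Finset.sum_congr rfl fun ξ _ => ?_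
    push_cast
    ring
  have hNs : ∀ s s', N s s' = N s' s := fun s s' =>
    Finset.sum_congr rfl fun i _ => by ring
  have h01 : s₀ ≠ s₁ := by
    rintro rfl
    apply hrs
    rw [sub_self]
    by_contra h0
    have h2 := h1 _ h0
    simp at h2
    linarith
  have hneg : ∀ d, R d → R (-d) := by
    intro d hd
    have h2 := hRsub _ _ (hRsub _ _ hd hd) hd
    rwa [sub_self, zero_sub] at h2
  have hpair : ∀ s, 1 ≤ N s s₀ + N s s₁ := by
    intro s
    by_cases h2 : R (c (r₀, s) - c (r₀, s₀))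
    · have h3 : ¬ R (c (r₀, s) - c (r₀, s₁)) := by
        intro h3
        apply hrs
        have h4 := hRsub _ _ h3 h2
        rwa [sub_sub_sub_cancel_left] at h4
      linarith [hN1 s s₁ h3, hN0 s s₀]
    · linarith [hN1 s s₀ h2, hN0 s s₁]
  have hmain : 2 * ((p : ℝ) - 1) ≤ ∑ s, ∑ s', N s s' := by
    -- rows
    have hrow : ∀ s, N s s₀ + N s s₁ ≤ ∑ s', N s s' := by
      intro s
      rw [← Finset.sum_pair (f := fun s' => N s s') h01]
      exact Finset.sum_le_sum_of_subset_of_nonneg (Finset.subset_univ _) fun _ _ _ => hN0 _ _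
    have hcard : ((Finset.univ.erase s₀).erase s₁ : Finset (Fin p)).card = p - 2 := by
      rw [Finset.card_erase_of_mem (Finset.mem_erase.2 ⟨h01.symm, Finset.mem_univ _⟩),
        Finset.card_erase_of_mem (Finset.mem_univ _), Finset.card_univ, Fintype.card_fin]
      omega
    have hp2 : 2 ≤ p := hp.out.two_le
    set U : Finset (Fin p) := (Finset.univ.erase s₀).erase s₁ with hU
    have hsplit : ∀ f : Fin p → ℝ, ∑ s, f s = f s₀ + (f s₁ + ∑ s ∈ U, f s) := by
      intro f
      rw [Finset.add_sum_erase _ f (Finset.mem_erase.2 ⟨h01.symm, Finset.mem_univ _⟩),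
        Finset.add_sum_erase _ f (Finset.mem_univ _)]
    have hcU : (U.card : ℝ) = p - 2 := by
      rw [hcard, Nat.cast_sub hp2]
      norm_num
    have a1 : (U.card : ℝ) ≤ ∑ s ∈ U, ∑ s', N s s' := by
      rw [← nsmul_one, ← Finset.sum_const]
      exact Finset.sum_le_sum fun s _ => (hpair s).trans (hrow s)
    have a2 : (U.card : ℝ) ≤ ∑ s ∈ U, (N s₀ s + N s₁ s) := by
      rw [← nsmul_one, ← Finset.sum_const]
      refine Finset.sum_le_sum fun s _ => ?_
      rw [hNs s₀ s, hNs s₁ s]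
      exact hpair s
    rw [Finset.sum_add_distrib] at a2
    have a3 : ∑ s', N s₀ s' = N s₀ s₀ + (N s₀ s₁ + ∑ s ∈ U, N s₀ s) := hsplit _
    have a4 : ∑ s', N s₁ s' = N s₁ s₀ + (N s₁ s₁ + ∑ s ∈ U, N s₁ s) := hsplit _
    have a5 := hN1 s₀ s₁ hrs
    have a6 : 1 ≤ N s₁ s₀ := by rw [hNs]; exact a5
    have a7 := hN0 s₀ s₀
    have a8 := hN0 s₁ s₁
    rw [hsplit (fun s => ∑ s', N s s')]
    rw [a3, a4]
    linarith
  have htot : ∑ s, ∑ s', N s s' ≤ ∑ i, ∑ r, ∑ s, ∑ s', (g i (r, s) - g i (r, s')) ^ 2 := by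
    have h2 : ∑ s, ∑ s', N s s' = ∑ i, ∑ s, ∑ s', (g i (r₀, s) - g i (r₀, s')) ^ 2 := by
      simp only [N]
      rw [Finset.sum_comm]
      rw [Finset.sum_comm]
      calc ∑ s, ∑ s', ∑ i, (g i (r₀, s) - g i (r₀, s')) ^ 2
          = ∑ s, ∑ i, ∑ s', (g i (r₀, s) - g i (r₀, s')) ^ 2 :=
            Finset.sum_congr rfl fun s _ => Finset.sum_comm
        _ = ∑ i, ∑ s, ∑ s', (g i (r₀, s) - g i (r₀, s')) ^ 2 := Finset.sum_comm
    rw [h2]
    refine Finset.sum_le_sum fun i _ => ?_
    exact Finset.single_le_sum (f := fun r => ∑ s, ∑ s', (g i (r, s) - g i (r, s')) ^ 2)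
      (fun r _ => Finset.sum_nonneg fun s _ => Finset.sum_nonneg fun s' _ => sq_nonneg _)
      (Finset.mem_univ r₀)
  have hcardU : (Fintype.card (ZMod (p ^ (j + 1)))ˣ : ℝ) = (p : ℝ) ^ j * (p - 1) := by
    rw [ZMod.card_units_eq_totient, Nat.totient_prime_pow_succ hp.out]
    push_cast [Nat.cast_sub hp.out.one_le]
    ring
  rw [hcardU]
  have hpj : (0 : ℝ) ≤ (p : ℝ) ^ j / 2 := by positivity
  calc (p : ℝ) ^ j * (p - 1) = (p : ℝ) ^ j / 2 * (2 * (p - 1)) := by ring
    _ ≤ (p : ℝ) ^ j / 2 * ∑ s, ∑ s', N s s' := mul_le_mul_of_nonneg_left hmain hpj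
    _ ≤ _ := mul_le_mul_of_nonneg_left htot hpj

end Cfsg.Agent.H616.FormAvg
end

-- part: H616/FormMain
section
/-!
# The bound `k(B) ≤ n` from a positive form of trace at most `n`

`card_le_of_formBd`: if `(u, b)` is a major subsection of `B` and `FormBd p b n` then `k(B) ≤ n`.
-/

set_option autoImplicit false
set_option linter.unusedSectionVars false

open Cfsg Matrix
open scoped ComplexConjugate

namespace Cfsg.Agent.H616.Form

open Cfsg.Agent.Blocks.Blau Cfsg.Agent.Blocks.Local Cfsg.Agent.Characters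
open Cfsg.Agent.H613 Cfsg.Agent.H613.RegGram Cfsg.Agent.H613.Contrib
  Cfsg.Agent.H613.ContribVal
open Cfsg.Agent.H616

section sub

variable {G : Type*} [Group G] [Fintype G] {p : ℕ} [Fact p.Prime] {M : Ideal AlgInt}
variable {u : G} {H : Subgroup G} [Fintype H] [Fintype (IrrCharacter H)] {j : ℕ}
  {m : IrrCharacter G → IrrCharacter H → ℕ} {e : IrrCharacter H → ℂ}
  {b : Set (IrrCharacter H)} [Fintype b] {P : Matrix b b ℤ} [DecidableEq b]
  {B : Set (IrrCharacter G)} [Fintype B]
  {l : ℕ} {D : Matrix b (Fin l) ℤ} {E : Matrix (Fin l) b ℤ} {A : Matrix (Fin l) (Fin l) ℤ}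

/-- The counting argument. -/
theorem card_le_of_isForm (h : SubData p M u H (p ^ (j + 1)) m e b P B D E A)
    (hd : blockDefect p b = blockDefect p B) {n : ℕ} {κ : Type*} [Fintype κ] {T : b → κ → ℝ}
    (hT : IsForm p b n T) : (Fintype.card B : ℝ) ≤ n := by
  have hp0 : p ^ (j + 1) ≠ 0 := pow_ne_zero _ h.mod.1.ne_zero
  have hnz : NeZero (p ^ (j + 1)) := ⟨hp0⟩
  -- coordinates of `T`
  let S : Fin l → κ → ℝ := fun i x => ∑ η, (E i η : ℝ) * T η x
  have hTS : ∀ ξ x, T ξ x = ∑ i, (D ξ i : ℝ) * S i x := by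
    intro ξ x
    have h1 : Rel p b (fun η => (if η = ξ then 1 else 0) - ∑ i, D ξ i * E i η) := by
      rw [rel_iff h.mod h.ind.1 h.gram h.fac]
      intro k
      simp only [sub_mul, Finset.sum_sub_distrib, ite_mul, one_mul, zero_mul]
      rw [Finset.sum_ite_eq' Finset.univ ξ, if_pos (Finset.mem_univ _)]
      have h2 : ∑ η, (∑ i, D ξ i * E i η) * D η k = ∑ i, D ξ i * (E * D) i k := by
        simp only [Finset.sum_mul, Matrix.mul_apply, Finset.mul_sum]
        rw [Finset.sum_comm]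
        exact Finset.sum_congr rfl fun i _ => Finset.sum_congr rfl fun η _ => by ring
      rw [h2, h.fac.left_inv]
      simp [Matrix.one_apply]
    have h2 := hT.zero _ h1 x
    push_cast at h2
    simp only [sub_mul, Finset.sum_sub_distrib, ite_mul, one_mul, zero_mul] at h2
    rw [Finset.sum_ite_eq' Finset.univ ξ, if_pos (Finset.mem_univ _), sub_eq_zero] at h2
    rw [h2]
    simp only [S, Finset.mul_sum, Finset.sum_mul]
    rw [Finset.sum_comm]
    exact Finset.sum_congr rfl fun i _ => Finset.sum_congr rfl fun η _ => by ring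
  -- the vectors attached to the characters
  let F : B → (ZMod (p ^ (j + 1)))ˣ → κ → ℂ := fun ψ v x =>
    ∑ ξ : b, ((m ψ ξ : ℤ) : ℂ) * (T ξ x : ℂ) * e ξ ^ (v : ZMod (p ^ (j + 1))).val
  have hF : ∀ ψ v x, F ψ v x = ∑ i, (S i x : ℂ) *
      gd m e (fun ξ => D ξ i) ψ (v : ZMod (p ^ (j + 1))).val := by
    intro ψ v x
    simp only [F, gd_def, Finset.mul_sum]
    rw [Finset.sum_comm]
    refine Finset.sum_congr rfl fun ξ _ => ?_
    rw [hTS ξ x]
    push_cast
    rw [Finset.mul_sum, Finset.sum_mul]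
    exact Finset.sum_congr rfl fun i _ => by ring
  have hsum : ∀ v, ∑ ψ, ∑ x, ‖F ψ v x‖ ^ 2 = ∑ ξ, ∑ x, T ξ x ^ 2 := by
    intro v
    rw [Finset.sum_comm, Finset.sum_comm (s := (Finset.univ : Finset b)) (t := Finset.univ)
      (f := fun ξ x => T ξ x ^ 2)]
    refine Finset.sum_congr rfl fun x _ => ?_
    have h1 : ((∑ ψ, ‖F ψ v x‖ ^ 2 : ℝ) : ℂ) = ((∑ ξ, T ξ x ^ 2 : ℝ) : ℂ) := by
      push_cast
      have h2 : ∀ ψ, ((‖F ψ v x‖ : ℝ) : ℂ) ^ 2 = ∑ i, ∑ k, (S i x : ℂ) * (S k x : ℂ) *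
          (gd m e (fun ξ => D ξ i) ψ (v : ZMod (p ^ (j + 1))).val *
            conj (gd m e (fun ξ => D ξ k) ψ (v : ZMod (p ^ (j + 1))).val)) := by
        intro ψ
        have h3 : ((‖F ψ v x‖ : ℝ) : ℂ) ^ 2 = F ψ v x * conj (F ψ v x) := by
          rw [Complex.mul_conj, Complex.normSq_eq_norm_sq]
          push_cast
          rfl
        rw [h3, hF, map_sum, Finset.sum_mul_sum]
        refine Finset.sum_congr rfl fun i _ => Finset.sum_congr rfl fun k _ => ?_
        rw [map_mul, Complex.conj_ofReal]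
        ring
      rw [Finset.sum_congr rfl fun ψ _ => h2 ψ, Finset.sum_comm]
      have h4 : ∀ i, ∑ ψ : B, ∑ k, (S i x : ℂ) * (S k x : ℂ) *
          (gd m e (fun ξ => D ξ i) ψ (v : ZMod (p ^ (j + 1))).val *
            conj (gd m e (fun ξ => D ξ k) ψ (v : ZMod (p ^ (j + 1))).val)) =
          ∑ k, (S i x : ℂ) * (S k x : ℂ) * ∑ η : b, (D η i : ℂ) * (D η k : ℂ) := by
        intro i
        rw [Finset.sum_comm]
        refine Finset.sum_congr rfl fun k _ => ?_
        rw [← Finset.mul_sum, h.orth (ZMod.val_coe_unit_coprime v) i k]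
      rw [Finset.sum_congr rfl fun i _ => h4 i]
      have h5 : ∀ ξ, ((T ξ x : ℝ) : ℂ) ^ 2 = ∑ i, ∑ k, (S i x : ℂ) * (S k x : ℂ) *
          ((D ξ i : ℂ) * (D ξ k : ℂ)) := by
        intro ξ
        rw [hTS ξ x, sq]
        push_cast
        rw [Finset.sum_mul_sum]
        exact Finset.sum_congr rfl fun i _ => Finset.sum_congr rfl fun k _ => by ring
      rw [Finset.sum_congr rfl fun ξ _ => h5 ξ]
      conv_rhs => rw [Finset.sum_comm]
      refine Finset.sum_congr rfl fun i _ => ?_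
      conv_rhs => rw [Finset.sum_comm]
      refine Finset.sum_congr rfl fun k _ => ?_
      rw [← Finset.mul_sum]
    exact_mod_cast h1
  have key := card_le_of_avg (Finset.univ : Finset B) (ι := (ZMod (p ^ (j + 1)))ˣ) (r := 1)
    (t := ∑ ξ, ∑ x, T ξ x ^ 2) (fun ψ v => ∑ x, ‖F ψ v x‖ ^ 2)
    (fun _ _ => Finset.sum_nonneg fun _ _ => by positivity)
    (fun ψ _ => by
      rw [one_mul]
      obtain ⟨i, hi⟩ := h.exists_ne_zero hd ψ.2
      refine FormAvg.avg_ge T (fun ξ : b => (m ψ ξ : ℤ)) (fun ξ : b => e ξ)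
        (fun ξ => h.exp.root ξ) (Rel p b) ?_ hT.one_le (fun ξ => D ξ i) ?_ ?_
      · intro c d hc hd
        have h2 := hc.add (hd.smul (-1))
        have h3 : c - d = c + fun ψ => -1 * d ψ := by
          ext ψ
          simp only [Pi.sub_apply, Pi.add_apply]
          ring
        rw [h3]
        exact h2
      · intro c hc
        exact (rel_iff h.mod h.ind.1 h.gram h.fac c).1 hc i
      · rw [gd_def] at hi
        simp only [pow_one] at hi
        intro h0
        apply hi
        rw [← h0]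
        exact Finset.sum_congr rfl fun ξ _ => by push_cast; ring)
    hsum
  rw [one_mul, Finset.card_univ] at key
  exact key.trans hT.sum_le

end sub

/-- **The form bound** for major subsections. -/
theorem card_le_of_formBd {G : Type*} [Group G] [Finite G] {p : ℕ} [Fact p.Prime]
    {M : Ideal AlgInt} (hM : IsPModular p M) {u : G} (hu : ∃ k : ℕ, orderOf u = p ^ k)
    {H : Subgroup G} (hH : H = Subgroup.centralizer ({u} : Set G)) {b : Set (IrrCharacter H)}
    {B : Set (IrrCharacter G)} (hind : IsInducedBlock M H b B)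
    (hd : blockDefect p b = blockDefect p B) {n : ℕ} (hF : FormBd p b n) : Nat.card B ≤ n := by
  classical
  have := Fintype.ofFinite G
  have := Fintype.ofFinite H
  have : Finite (IrrCharacter H) := Core.finite_irr
  have := Fintype.ofFinite (IrrCharacter H)
  have : Finite (IrrCharacter G) := Core.finite_irr
  have := Fintype.ofFinite (IrrCharacter G)
  have := Fintype.ofFinite b
  have := Fintype.ofFinite B
  obtain ⟨j, hj⟩ := hu
  have huq : u ^ p ^ (j + 1) = 1 := by
    rw [← orderOf_dvd_iff_pow_eq_one, hj]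
    exact pow_dvd_pow p (Nat.le_succ j)
  obtain ⟨m, e, hE⟩ := exists_exp hH huq
  obtain ⟨P, D, E, A, hP, hFac⟩ := exists_factor_block hM hind.1
  obtain ⟨N, T, hT⟩ := hF.exists
  have hS : SubData p M u H (p ^ (j + 1)) m e b P B D E A :=
    ⟨hM, ⟨j, hj⟩, hH, huq, hE, hind, hP, by convert hFac⟩
  rw [Nat.card_eq_fintype_card]
  exact_mod_cast card_le_of_isForm hS hd hT

end Cfsg.Agent.H616.Form
end

-- part: H624/FormDefl
section
/-!
# Positive forms and domination of blocks by a central `p`-subgroup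

`formBd_of_defl`: a positive form for the dominated block `defl U b` of trace at most `n` gives a
positive form for `b` of trace at most `|U| * n`.
-/

set_option autoImplicit false
set_option linter.unusedSectionVars false

open Cfsg Matrix
open scoped ComplexConjugate

namespace Cfsg.Agent.H624.FormDefl

open Cfsg.Agent.Blocks.Blau Cfsg.Agent.Blocks.Local Cfsg.Agent.Characters
open Cfsg.Agent.Blocks.PRegular
open Cfsg.Agent.H613.RegGram
open Cfsg.Agent.H616.Form Cfsg.Agent.H644.CentralQuot Cfsg.Agent.H658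

universe u

variable {H : Type u} [Group H] {p : ℕ} [Fact p.Prime] {M : Ideal AlgInt}

/-- A form is reproduced by the Gram matrix of the block. -/
theorem IsForm.repr [Fintype H] (hM : IsPModular p M) {b : Set (IrrCharacter H)} [Fintype b]
    (hb : IsPBlock M b) {n : ℕ} {κ : Type*} [Fintype κ] {T : b → κ → ℝ} (hT : IsForm p b n T)
    (θ : b) (i : κ) :
    (T θ i : ℂ) = ∑ ζ : b, rg p (θ : H → ℂ) (ζ : H → ℂ) * (T ζ i : ℂ) := by
  classical
  have hp0 : (p : ℂ) ^ blockDefect p b ≠ 0 := pow_ne_zero _ (by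
    exact_mod_cast (Fact.out : p.Prime).ne_zero)
  have hint : ∀ ζ : b, ∃ k : ℤ, (p : ℂ) ^ blockDefect p b *
      rg p (θ : H → ℂ) (ζ : H → ℂ) = k := by
    intro ζ
    obtain ⟨k, hk⟩ := exists_int_rg (p := p) hM (B := b) θ.2 (ζ : IrrCharacter H)
    exact ⟨k, by rw [← hk]⟩
  choose k hk using hint
  have hrel : Rel p b (fun ζ => (if ζ = θ then (p : ℤ) ^ blockDefect p b else 0) - k ζ) := by
    intro g hg
    have h1 := congrFun (regPart_eq_sum_block hM hb θ.2) g
    rw [regPart_of_not_dvd hg, Finset.sum_apply] at h1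
    push_cast
    simp only [sub_mul, Finset.sum_sub_distrib]
    have h2 : ∑ ζ : b, (if ζ = θ then (p : ℂ) ^ blockDefect p b else 0) *
        ((ζ : IrrCharacter H) : H → ℂ) g =
        (p : ℂ) ^ blockDefect p b * ((θ : IrrCharacter H) : H → ℂ) g := by
      rw [Finset.sum_eq_single θ]
      · rw [if_pos rfl]
      · intro ζ _ hζ
        rw [if_neg hζ, zero_mul]
      · intro h
        exact absurd (Finset.mem_univ _) h
    rw [h2, h1, Finset.mul_sum, ← Finset.sum_sub_distrib]
    refine Finset.sum_eq_zero fun ζ _ => ?_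
    rw [← hk, Pi.smul_apply, smul_eq_mul]
    ring
  have h1 := hT.zero _ hrel i
  push_cast at h1
  simp only [sub_mul, Finset.sum_sub_distrib] at h1
  have h2 : ∑ ζ : b, (if ζ = θ then (p : ℝ) ^ blockDefect p b else 0) * T ζ i =
      (p : ℝ) ^ blockDefect p b * T θ i := by
    rw [Finset.sum_eq_single θ]
    · rw [if_pos rfl]
    · intro ζ _ hζ
      rw [if_neg hζ, zero_mul]
    · intro h
      exact absurd (Finset.mem_univ _) h
  rw [h2, sub_eq_zero] at h1
  have h3 := congrArg (fun r : ℝ => (r : ℂ)) h1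
  push_cast at h3
  apply mul_left_cancel₀ hp0
  rw [h3, Finset.mul_sum]
  refine Finset.sum_congr rfl fun ζ _ => ?_
  rw [← hk]
  ring

/-- **Domination**. -/
theorem formBd_of_defl [Finite H] (hM : IsPModular p M) {U : Subgroup H} [U.Normal]
    (hU : U ≤ Subgroup.center H) (hp : IsPGroup p U) {b : Set (IrrCharacter H)}
    (hb : IsPBlock M b) {n : ℕ} (h : FormBd p (defl U b) n) : FormBd p b (Nat.card U * n) := by
  classical
  have := Fintype.ofFinite H
  have := Fintype.ofFinite (H ⧸ U)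
  have := Core.finite_irr (G := H)
  have := Core.finite_irr (G := H ⧸ U)
  have : Fintype b := Fintype.ofFinite _
  have : Fintype (defl U b) := Fintype.ofFinite _
  obtain ⟨N, T, hT⟩ := h.exists
  have hbd := isPBlock_defl hM hU hp hb
  have hm : ∀ ψ : b, ∃ m : defl U b → ℤ, ∀ g : H, ¬ p ∣ orderOf g →
      (ψ : H → ℂ) g = ∑ θ : defl U b, (m θ : ℂ) * (infl U (θ : IrrCharacter (H ⧸ U)) : H → ℂ) g :=
    fun ψ => exists_int_defl hM hU hp hb ψ.2
  choose m hm using hm
  have hU0 : (Nat.card U : ℂ) ≠ 0 := by exact_mod_cast Nat.card_pos.ne'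
  -- the values of combinations
  have hval : ∀ (c : b → ℤ) (g : H), ¬ p ∣ orderOf g →
      ∑ θ : defl U b, ((∑ ψ, c ψ * m ψ θ : ℤ) : ℂ) *
        ((θ : IrrCharacter (H ⧸ U)) : H ⧸ U → ℂ) (QuotientGroup.mk g) =
      ∑ ψ : b, (c ψ : ℂ) * ((ψ : IrrCharacter H) : H → ℂ) g := by
    intro c g hg
    push_cast
    simp only [Finset.sum_mul]
    rw [Finset.sum_comm]
    refine Finset.sum_congr rfl fun ψ _ => ?_
    rw [hm ψ g hg, Finset.mul_sum]
    refine Finset.sum_congr rfl fun θ _ => ?_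
    rw [infl_apply]
    ring
  have hrel : ∀ c : b → ℤ, Rel p b c ↔ Rel p (defl U b) (fun θ => ∑ ψ, c ψ * m ψ θ) := by
    intro c
    constructor
    · intro hc x hx
      obtain ⟨g, hg, rfl⟩ := exists_isPRegular_lift H p U hx
      rw [hval c g hg]
      exact hc g hg
    · intro hc g hg
      rw [← hval c g hg]
      exact hc _ (not_dvd_orderOf_mk hg)
  have hsum : ∀ (c : b → ℤ) (i : Fin N), ∑ ψ : b, (c ψ : ℝ) * ∑ θ : defl U b, (m ψ θ : ℝ) * T θ i =
      ∑ θ : defl U b, ((∑ ψ, c ψ * m ψ θ : ℤ) : ℝ) * T θ i := by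
    intro c i
    push_cast
    simp only [Finset.sum_mul, Finset.mul_sum]
    rw [Finset.sum_comm]
    refine Finset.sum_congr rfl fun θ _ => Finset.sum_congr rfl fun ψ _ => ?_
    ring
  -- the trace
  have hrg : ∀ (ψ : b) (ζ : defl U b), (Nat.card U : ℂ) *
      rg p (ψ : H → ℂ) (infl U (ζ : IrrCharacter (H ⧸ U)) : H → ℂ) =
      ∑ θ : defl U b, (m ψ θ : ℂ) * rg p (θ : H ⧸ U → ℂ) (ζ : H ⧸ U → ℂ) := by
    intro ψ ζ
    have h1 : rg p (ψ : H → ℂ) (infl U (ζ : IrrCharacter (H ⧸ U)) : H → ℂ) =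
        ∑ θ : defl U b, (m ψ θ : ℂ) * rg p (infl U (θ : IrrCharacter (H ⧸ U)) : H → ℂ)
          (infl U (ζ : IrrCharacter (H ⧸ U)) : H → ℂ) := by
      simp only [rg_def, H613.Contrib.pair_eq_sum_filter, Finset.mul_sum]
      rw [Finset.sum_comm]
      refine Finset.sum_congr rfl fun g hg => ?_
      rw [hm ψ g (Finset.mem_filter.1 hg).2, Finset.sum_mul, Finset.mul_sum]
      refine Finset.sum_congr rfl fun θ _ => ?_
      ring
    rw [h1, Finset.mul_sum]
    refine Finset.sum_congr rfl fun θ _ => ?_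
    rw [rg_infl hU hp]
    ring
  have hTrep : ∀ (ψ : b) (i : Fin N), ((∑ θ : defl U b, (m ψ θ : ℝ) * T θ i : ℝ) : ℂ) =
      (Nat.card U : ℂ) * ∑ ζ : defl U b,
        rg p (ψ : H → ℂ) (infl U (ζ : IrrCharacter (H ⧸ U)) : H → ℂ) * (T ζ i : ℂ) := by
    intro ψ i
    push_cast
    rw [Finset.mul_sum]
    have h1 : ∀ ζ : defl U b, (Nat.card U : ℂ) *
        (rg p (ψ : H → ℂ) (infl U (ζ : IrrCharacter (H ⧸ U)) : H → ℂ) * (T ζ i : ℂ)) =
        ∑ θ : defl U b, (m ψ θ : ℂ) * (rg p (θ : H ⧸ U → ℂ) (ζ : H ⧸ U → ℂ) * (T ζ i : ℂ)) := by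
      intro ζ
      rw [← mul_assoc, hrg, Finset.sum_mul]
      refine Finset.sum_congr rfl fun θ _ => ?_
      ring
    rw [Finset.sum_congr rfl fun ζ _ => h1 ζ, Finset.sum_comm]
    refine Finset.sum_congr rfl fun θ _ => ?_
    rw [← Finset.mul_sum, ← IsForm.repr hM hbd hT]
  have htr : ∀ i : Fin N, ∑ ψ : b, (∑ θ : defl U b, (m ψ θ : ℝ) * T θ i) ^ 2 =
      (Nat.card U : ℝ) * ∑ θ : defl U b, T θ i ^ 2 := by
    intro i
    have h1 : ((∑ ψ : b, (∑ θ : defl U b, (m ψ θ : ℝ) * T θ i) ^ 2 : ℝ) : ℂ) =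
        (((Nat.card U : ℝ) * ∑ θ : defl U b, T θ i ^ 2 : ℝ) : ℂ) := by
      rw [Complex.ofReal_sum]
      have h2 : ∀ ψ : b, (((∑ θ : defl U b, (m ψ θ : ℝ) * T θ i) ^ 2 : ℝ) : ℂ) =
          (Nat.card U : ℂ) ^ 2 * ∑ ζ : defl U b, ∑ ζ' : defl U b,
            (T ζ i : ℂ) * (T ζ' i : ℂ) *
            (rg p (infl U (ζ : IrrCharacter (H ⧸ U)) : H → ℂ) (ψ : H → ℂ) *
              rg p (ψ : H → ℂ) (infl U (ζ' : IrrCharacter (H ⧸ U)) : H → ℂ)) := by
        intro ψ
        rw [Complex.ofReal_pow, hTrep, mul_pow, pow_two (∑ ζ : defl U b, _), Finset.sum_mul_sum]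
        congr 1
        refine Finset.sum_congr rfl fun ζ _ => Finset.sum_congr rfl fun ζ' _ => ?_
        rw [rg_comm p (Core.isIrr_isCharacter (ψ : IrrCharacter H).2)
          (Core.isIrr_isCharacter (infl U (ζ : IrrCharacter (H ⧸ U))).2)]
        ring
      rw [Finset.sum_congr rfl fun ψ _ => h2 ψ, ← Finset.mul_sum, Finset.sum_comm]
      have h3 : ∀ ζ : defl U b, ∑ ψ : b, ∑ ζ' : defl U b,
            (T ζ i : ℂ) * (T ζ' i : ℂ) *
            (rg p (infl U (ζ : IrrCharacter (H ⧸ U)) : H → ℂ) (ψ : H → ℂ) *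
              rg p (ψ : H → ℂ) (infl U (ζ' : IrrCharacter (H ⧸ U)) : H → ℂ)) =
          (T ζ i : ℂ) * ((Nat.card U : ℂ)⁻¹ * (T ζ i : ℂ)) := by
        intro ζ
        rw [Finset.sum_comm]
        have h4 : ∀ ζ' : defl U b, ∑ ψ : b, (T ζ i : ℂ) * (T ζ' i : ℂ) *
            (rg p (infl U (ζ : IrrCharacter (H ⧸ U)) : H → ℂ) (ψ : H → ℂ) *
              rg p (ψ : H → ℂ) (infl U (ζ' : IrrCharacter (H ⧸ U)) : H → ℂ)) =
            (T ζ i : ℂ) * ((Nat.card U : ℂ)⁻¹ *
              (rg p (ζ : H ⧸ U → ℂ) (ζ' : H ⧸ U → ℂ) * (T ζ' i : ℂ))) := by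
          intro ζ'
          rw [← Finset.mul_sum, sum_rg_mul_rg hM hb (mem_defl.1 ζ.2), rg_infl hU hp]
          field_simp
        rw [Finset.sum_congr rfl fun ζ' _ => h4 ζ', ← Finset.mul_sum, ← Finset.mul_sum,
          ← IsForm.repr hM hbd hT]
      rw [Finset.sum_congr rfl fun ζ _ => h3 ζ]
      push_cast
      rw [Finset.mul_sum, Finset.mul_sum]
      refine Finset.sum_congr rfl fun ζ _ => ?_
      field_simp
    exact_mod_cast h1
  refine IsForm.formBd (T := fun ψ i => ∑ θ : defl U b, (m ψ θ : ℝ) * T θ i) ⟨?_, ?_, ?_⟩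
  · intro c hc i
    rw [hsum]
    exact hT.zero _ ((hrel c).1 hc) i
  · intro c hc
    simp only [hsum]
    exact hT.one_le _ fun h1 => hc ((hrel c).2 h1)
  · rw [Finset.sum_comm, Finset.sum_congr rfl fun i _ => htr i, ← Finset.mul_sum,
      Finset.sum_comm]
    push_cast
    exact mul_le_mul_of_nonneg_left hT.sum_le (by positivity)

end Cfsg.Agent.H624.FormDefl
end

-- part: H624/AbSq
section
/-!
# Odd groups of automorphisms of abelian `2`-groups of order at most `16`

`sq_case`: `V` abelian of order at most `16`, not elementary: an odd group `A` of automorphisms is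
trivial, or of order three with a quarter of the elements fixed, or `V` is `C₄ × C₄`.
`fix_of_three`: `A` of order three, `V` of order `8` or `16`: the number of fixed points.
-/

set_option autoImplicit false
set_option linter.unusedSectionVars false

namespace Cfsg.Agent.H624.AbSq

open Subgroup Cfsg.Agent.H809.OddAct

variable {V : Type*} [CommGroup V] [Finite V]

/-- A group of odd order acting trivially on the involutions is trivial. -/
theorem eq_bot_of_invol (hV : IsPGroup 2 V) {B : Subgroup (MulAut V)} (hB : Odd (Nat.card B))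
    (h : ∀ x : V, x * x = 1 → x ∈ Fx B) : B = ⊥ := by
  by_contra hne
  obtain ⟨w, hw, hw1⟩ := exists_cm_ne hne
  obtain ⟨k, hk⟩ := IsPGroup.iff_orderOf.1 hV w
  have hk0 : k ≠ 0 := by
    rintro rfl
    rw [pow_zero, orderOf_eq_one_iff] at hk
    exact hw1 hk
  obtain ⟨j, rfl⟩ := Nat.exists_eq_succ_of_ne_zero hk0
  have h1 : w ^ 2 ^ j ∈ Cm B := (Cm B).pow_mem hw _
  have h2 : w ^ 2 ^ j * w ^ 2 ^ j = 1 := by
    rw [← pow_two, ← pow_mul, ← pow_succ, ← hk, pow_orderOf_eq_one]
  have h3 := fx_cm hV hB (h _ h2) h1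
  have h4 := orderOf_dvd_of_pow_eq_one h3
  rw [hk] at h4
  exact absurd (Nat.le_of_dvd (by positivity) h4)
    (not_le.2 (Nat.pow_lt_pow_right (by norm_num) (Nat.lt_succ_self j)))

/-- The squaring map. -/
def sq (V : Type*) [CommGroup V] : V →* V where
  toFun x := x * x
  map_one' := mul_one 1
  map_mul' x y := by rw [mul_mul_mul_comm]

theorem sq_apply (x : V) : sq V x = x * x := rfl

theorem mem_ker {x : V} : x ∈ (sq V).ker ↔ x * x = 1 := Iff.rfl

theorem ker_inv (a : MulAut V) {x : V} (hx : x ∈ (sq V).ker) : a x ∈ (sq V).ker := by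
  rw [mem_ker] at hx ⊢
  rw [← map_mul, hx, map_one]

theorem range_inv (a : MulAut V) {x : V} (hx : x ∈ (sq V).range) : a x ∈ (sq V).range := by
  obtain ⟨y, rfl⟩ := hx
  refine ⟨a y, ?_⟩
  rw [sq_apply, sq_apply, map_mul]

theorem card_ker_mul_range : Nat.card (sq V).ker * Nat.card (sq V).range = Nat.card V := by
  rw [← Subgroup.index_ker]
  exact (sq V).ker.card_mul_index

theorem card_Fx_modEq {A : Subgroup (MulAut V)} (h3 : Nat.card A = 3) :
    Nat.card V ≡ Nat.card (Fx A) [MOD 3] := by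
  have hp : Fact (Nat.Prime 3) := ⟨Nat.prime_three⟩
  have hA : IsPGroup 3 A := IsPGroup.of_card (n := 1) (by rw [h3, pow_one])
  have h1 := card_modEq hA (Set.univ : Set V) (fun _ _ _ _ => Set.mem_univ _)
  have h2 : Nat.card (Set.univ : Set V) = Nat.card V := Nat.card_congr (Equiv.Set.univ V)
  have h4 : Nat.card {x : V // x ∈ (Set.univ : Set V) ∧ ∀ b ∈ A, b x = x} = Nat.card (Fx A) := by
    apply Nat.card_congr
    refine Equiv.subtypeEquivRight fun x => ?_
    rw [mem_Fx]
    exact ⟨fun h => h.2, fun h => ⟨Set.mem_univ _, h⟩⟩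
  rwa [h2, h4] at h1

theorem card_Fx_ne {A : Subgroup (MulAut V)} (h3 : Nat.card A = 3) :
    Nat.card (Fx A) ≠ Nat.card V := by
  intro h
  have h1 : Fx A = ⊤ := Subgroup.card_eq_iff_eq_top (Fx A) |>.1 h
  have h2 := eq_one_of_fx (B := A) fun v => by rw [h1]; exact Subgroup.mem_top v
  rw [h2, Subgroup.card_bot] at h3
  norm_num at h3

/-- Order three: the number of fixed points. -/
theorem fix_of_three (hV : IsPGroup 2 V) (hcard : Nat.card V ≤ 16) {A : Subgroup (MulAut V)}
    (h3 : Nat.card A = 3) :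
    4 * Nat.card (Fx A) = Nat.card V ∨ (Nat.card V = 16 ∧ Nat.card (Fx A) = 1) := by
  have h1 := card_Fx_modEq h3
  have h2 := card_Fx_ne h3
  obtain ⟨j, hj, hj', hdvd⟩ := two_pow hV (Fx A) hcard
  obtain ⟨k, hk⟩ := hV.exists_card_eq
  have hk4 : k ≤ 4 := by
    by_contra h
    push Not at h
    have : 2 ^ 5 ≤ 2 ^ k := Nat.pow_le_pow_right (by norm_num) h
    omega
  have hj4 : j ≤ 4 := by
    by_contra h
    push Not at h
    have : 2 ^ 5 ≤ 2 ^ j := Nat.pow_le_pow_right (by norm_num) h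
    omega
  rw [hj, hk] at h1 h2 hdvd ⊢
  clear hj' hj hk hcard hV h3
  interval_cases k <;> interval_cases j <;> revert h1 h2 hdvd <;> decide

/-- **The non elementary case**. -/
theorem sq_case (hV : IsPGroup 2 V) (hcard : Nat.card V ≤ 16) (hne : ∃ x : V, x * x ≠ 1)
    {A : Subgroup (MulAut V)} (hA : Odd (Nat.card A)) :
    Nat.card A = 1 ∨ (Nat.card A = 3 ∧ 4 * Nat.card (Fx A) = Nat.card V) ∨
      (Nat.card V = 16 ∧ Nat.card (sq V).ker = 4 ∧ (sq V).range = (sq V).ker) := by
  classical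
  have hKR := card_ker_mul_range (V := V)
  set K := (sq V).ker with hK
  set R := (sq V).range with hR
  have hR1 : ∃ w ∈ R, w ≠ 1 ∧ w * w = 1 := by
    obtain ⟨x, hx⟩ := hne
    obtain ⟨k, hk⟩ := IsPGroup.iff_orderOf.1 hV x
    have hk2 : 2 ≤ k := by
      by_contra hlt
      apply hx
      have h1 : orderOf x ∣ 2 := by
        rw [hk]
        exact (pow_dvd_pow 2 (show k ≤ 1 by omega)).trans (by norm_num)
      rw [← pow_two]
      exact orderOf_dvd_iff_pow_eq_one.1 h1
    obtain ⟨j, rfl⟩ := Nat.exists_eq_add_of_le hk2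
    refine ⟨x ^ 2 ^ (j + 1), ⟨x ^ 2 ^ j, ?_⟩, ?_, ?_⟩
    · rw [sq_apply, ← pow_add, pow_succ]
      congr 1
      ring
    · intro h
      have h4 := orderOf_dvd_of_pow_eq_one h
      rw [hk] at h4
      exact absurd (Nat.le_of_dvd (by positivity) h4)
        (not_le.2 (Nat.pow_lt_pow_right (by norm_num) (by omega)))
    · rw [← pow_add, ← two_mul, ← pow_succ', show j + 1 + 1 = 2 + j by ring, ← hk,
        pow_orderOf_eq_one]
  obtain ⟨w, hwR, hw1, hww⟩ := hR1
  have hwK : w ∈ K := mem_ker.2 hww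
  obtain ⟨i, hi, hi16, -⟩ := two_pow hV K hcard
  obtain ⟨j, hj, hj16, -⟩ := two_pow hV R hcard
  have hi0 : i ≠ 0 := by
    rintro rfl
    rw [pow_zero, Subgroup.card_eq_one] at hi
    rw [hi, Subgroup.mem_bot] at hwK
    exact hw1 hwK
  have hj0 : j ≠ 0 := by
    rintro rfl
    rw [pow_zero, Subgroup.card_eq_one] at hj
    rw [hj, Subgroup.mem_bot] at hwR
    exact hw1 hwR
  have hij : 2 ^ (i + j) ≤ 16 := by rw [pow_add, ← hi, ← hj, hKR]; exact hcard
  have hij4 : i + j ≤ 4 := by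
    by_contra h
    push Not at h
    have : 2 ^ 5 ≤ 2 ^ (i + j) := Nat.pow_le_pow_right (by norm_num) h
    omega
  have hfixK : ∀ (B : Subgroup (MulAut V)), Odd (Nat.card B) → (∀ x ∈ K, ∀ b ∈ B, b x = x) →
      B = ⊥ := fun B hB h => eq_bot_of_invol hV hB fun x hx b hb => h x (mem_ker.2 hx) b hb
  -- the intersection
  have hRK : ∀ a ∈ A, ∀ c ∈ R ⊓ K, a c ∈ R ⊓ K := fun a _ c hc =>
    Subgroup.mem_inf.2 ⟨range_inv a (Subgroup.mem_inf.1 hc).1, ker_inv a (Subgroup.mem_inf.1 hc).2⟩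
  by_cases hi2 : i ≤ 2
  · have hK4 : Nat.card K ≤ 4 := by
      rw [hi]
      exact (Nat.pow_le_pow_right (by norm_num) hi2).trans (by norm_num)
    by_cases h2 : Nat.card (R ⊓ K : Subgroup V) ≤ 2
    · left
      have h3 : ∀ a ∈ A, a w = w := fix_of_two hA ((R ⊓ K : Subgroup V) : Set V) hRK h2
        (Subgroup.mem_inf.2 ⟨hwR, hwK⟩)
      have h4 := triv_of_fix hA (C := K) (fun a _ c hc => ker_inv a hc) hK4 hwK hw1 h3
      rw [hfixK A hA h4, Subgroup.card_bot]
    · right; right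
      have h3 : R ⊓ K = K := by
        refine Subgroup.eq_of_le_of_card_ge inf_le_right ?_
        obtain ⟨m, hm, -, -⟩ := two_pow hV (R ⊓ K) hcard
        have h4 : 2 ≤ m := by
          by_contra hlt
          apply h2
          rw [hm]
          exact (Nat.pow_le_pow_right (by norm_num) (show m ≤ 1 by omega)).trans (by norm_num)
        calc Nat.card K ≤ 4 := hK4
          _ = 2 ^ 2 := by norm_num
          _ ≤ 2 ^ m := Nat.pow_le_pow_right (by norm_num) h4
          _ = _ := hm.symm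
      have hKle : K ≤ R := inf_eq_right.1 h3
      have hii : i = 2 := by
        have h4 : Nat.card (R ⊓ K : Subgroup V) = 2 ^ i := by rw [h3, hi]
        rw [h4] at h2
        by_contra hlt
        have : i ≤ 1 := by omega
        exact h2 ((Nat.pow_le_pow_right (by norm_num) this).trans (by norm_num))
      subst hii
      have hj2 : j = 2 := by
        have h4 : Nat.card K ≤ Nat.card R := Subgroup.card_le_of_le hKle
        rw [hi, hj] at h4
        have := (Nat.pow_le_pow_iff_right (by norm_num : 1 < 2)).1 h4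
        omega
      subst hj2
      refine ⟨by rw [← hKR, hi, hj]; norm_num, by rw [hi]; norm_num, ?_⟩
      exact (Subgroup.eq_of_le_of_card_ge hKle (by rw [hi, hj])).symm
  · have hi3 : i = 3 := by omega
    have hj1 : j = 1 := by omega
    subst hi3 hj1
    have hV16 : Nat.card V = 16 := by rw [← hKR, hi, hj]; norm_num
    have hfw : ∀ a ∈ A, a w = w := fix_of_two hA (R : Set V) (fun a _ x hx => range_inv a hx)
      (by
        have : Nat.card (R : Set V) = Nat.card R := rfl
        rw [this, hj]; norm_num) hwR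
    have hFw : w ∈ Fx A := hfw
    -- a noncentral element of `K`
    have hcd := card_diff_one hwK hw1
    rw [hi] at hcd
    have hne' : Nonempty {x : V // x ∈ K ∧ x ≠ 1 ∧ x ≠ w} := by
      rw [← Finite.card_pos_iff]
      omega
    have key : ∀ v : V, v ∈ K → v ≠ 1 → v ≠ w → St A v = ⊥ := by
      intro v hvK hv1 hvw
      have hodd : Odd (Nat.card (St A v)) := Odd.of_dvd_nat hA (card_dvd_of_le (St_le A v))
      refine hfixK _ hodd ?_
      -- the quotient of order two
      obtain ⟨L, hL⟩ : ∃ L : Subgroup V, L = Fx (St A v) ⊓ K := ⟨_, rfl⟩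
      have hLK : L ≤ K := hL ▸ inf_le_right
      have hwL : w ∈ L := by
        rw [hL]
        exact Subgroup.mem_inf.2 ⟨fun b hb => hfw b hb.1, hwK⟩
      have hvL : v ∈ L := by
        rw [hL]
        exact Subgroup.mem_inf.2 ⟨fun b hb => hb.2, hvK⟩
      have hL4 : 4 ≤ Nat.card L := by
        have h1 := card_diff_one hwL hw1
        have h2 : Nonempty {x : V // x ∈ L ∧ x ≠ 1 ∧ x ≠ w} := ⟨⟨v, hvL, hv1, hvw⟩⟩
        have h3 := Finite.card_pos_iff.2 h2
        obtain ⟨m, hm, -, -⟩ := two_pow hV L hcard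
        have h4 : 2 ≤ m := by
          by_contra hlt
          have : 2 ^ m ≤ 2 ^ 1 := Nat.pow_le_pow_right (by norm_num) (by omega)
          omega
        rw [hm]
        calc 4 = 2 ^ 2 := by norm_num
          _ ≤ 2 ^ m := Nat.pow_le_pow_right (by norm_num) h4
      have hrel : L.relIndex K ≤ 2 := by
        have h1 : Nat.card L * L.relIndex K = Nat.card K := by
          have := Subgroup.card_mul_index (L.subgroupOf K)
          rwa [Nat.card_congr (Subgroup.subgroupOfEquivOfLe hLK).toEquiv] at this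
        rw [hi] at h1
        by_contra hlt
        push Not at hlt
        have : 4 * 3 ≤ Nat.card L * L.relIndex K := Nat.mul_le_mul hL4 hlt
        omega
      intro x hx b hb
      -- `b x * x⁻¹ ∈ L`
      have h1 : b x * x⁻¹ ∈ L := by
        by_cases hxL : x ∈ L
        · rw [hL] at hxL
          rw [(Subgroup.mem_inf.1 hxL).1 b hb, mul_inv_cancel]
          exact L.one_mem
        · have hbL : b x ∉ L := by
            intro h
            apply hxL
            rw [hL, Subgroup.mem_inf] at h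
            have h2 := h.1 b⁻¹ ((St A v).inv_mem hb)
            rw [MulAut.inv_apply_self] at h2
            rw [hL, Subgroup.mem_inf]
            rw [← h2] at h
            exact ⟨h.1, hx⟩
          have hbK : b x ∈ K := ker_inv b hx
          -- index two
          have h3 : L.relIndex K = 2 ∨ L.relIndex K = 1 := by
            have : L.relIndex K ≠ 0 := by
              have hfin : Finite (K ⧸ L.subgroupOf K) := inferInstance
              exact Subgroup.index_ne_zero_of_finite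
            omega
          rcases h3 with h3 | h3
          · have h4 := Subgroup.mul_mem_iff_of_index_two h3 (a := (⟨b x, hbK⟩ : K))
              (b := (⟨x, hx⟩ : K)⁻¹)
            rw [Subgroup.mem_subgroupOf, Subgroup.mem_subgroupOf, inv_mem_iff,
              Subgroup.mem_subgroupOf] at h4
            exact h4.2 ⟨fun h => absurd h hbL, fun h => absurd h hxL⟩
          · exact absurd (Subgroup.relIndex_eq_one.1 h3 hx) hxL
      have h2 : b x * x⁻¹ ∈ Fx (St A v) := by
        rw [hL] at h1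
        exact (Subgroup.mem_inf.1 h1).1
      exact mul_inv_eq_one.1 (fx_cm hV hodd h2 (mem_Cm _ hb x))
    obtain ⟨v, hvK, hv1, hvw⟩ := hne'.some
    have horb := orb A v
    rw [key v hvK hv1 hvw, Subgroup.card_bot, mul_one] at horb
    -- the orbit
    have hle : Nat.card {x : V // ∃ a ∈ A, a v = x} ≤ Nat.card {x : V // x ∈ K ∧ x ≠ 1 ∧ x ≠ w} := by
      refine Nat.card_le_card_of_injective
        (fun x : {x : V // ∃ a ∈ A, a v = x} => (⟨x.1, ?_⟩ : {x : V // x ∈ K ∧ x ≠ 1 ∧ x ≠ w}))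
        ?_
      · obtain ⟨x, a, ha, rfl⟩ := x
        refine ⟨ker_inv a hvK, fun h => hv1 ((MulEquiv.map_eq_one_iff a).1 h), fun h => ?_⟩
        rw [← hfw a ha] at h
        exact hvw (a.injective h)
      · intro x y h
        exact Subtype.ext (congrArg (fun z : {x : V // x ∈ K ∧ x ≠ 1 ∧ x ≠ w} => (z : V)) h)
    have h6 : Nat.card {x : V // x ∈ K ∧ x ≠ 1 ∧ x ≠ w} = 6 := by omega
    rw [h6, horb] at hle
    have h135 : Nat.card A = 1 ∨ Nat.card A = 3 ∨ Nat.card A = 5 := by
      obtain ⟨t, ht⟩ := hA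
      omega
    rcases h135 with h | h | h
    · exact Or.inl h
    · right; left
      refine ⟨h, ?_⟩
      rcases fix_of_three hV hcard h with h7 | ⟨-, h7⟩
      · exact h7
      · exfalso
        rw [Subgroup.card_eq_one] at h7
        rw [h7, Subgroup.mem_bot] at hFw
        exact hw1 hFw
    · exfalso
      -- five points in an orbit of length five
      obtain ⟨z, hz, hzo⟩ : ∃ z : {x : V // x ∈ K ∧ x ≠ 1 ∧ x ≠ w}, True ∧
          ¬ ∃ a ∈ A, a v = (z : V) := by
        by_contra hno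
        push Not at hno
        have h7 : Nat.card {x : V // x ∈ K ∧ x ≠ 1 ∧ x ≠ w} ≤
            Nat.card {x : V // ∃ a ∈ A, a v = x} :=
          Nat.card_le_card_of_injective (fun z => (⟨z.1, hno z trivial⟩ :
            {x : V // ∃ a ∈ A, a v = x})) fun x y hxy =>
              Subtype.ext (congrArg (fun z : {x : V // ∃ a ∈ A, a v = x} => (z : V)) hxy)
        rw [h6, horb, h] at h7
        omega
      have horz := orb A z.1
      rw [key z.1 z.2.1 z.2.2.1 z.2.2.2, Subgroup.card_bot, mul_one, h] at horz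
      -- disjoint orbits
      have h8 : Nat.card ({x : V // ∃ a ∈ A, a v = x} ⊕ {x : V // ∃ a ∈ A, a z.1 = x}) ≤
          Nat.card {x : V // x ∈ K ∧ x ≠ 1 ∧ x ≠ w} := by
        have hm : ∀ (y : V), y ∈ K → y ≠ 1 → y ≠ w → ∀ x : {x : V // ∃ a ∈ A, a y = x},
            x.1 ∈ K ∧ x.1 ≠ 1 ∧ x.1 ≠ w := by
          intro y hy hy1 hyw x
          obtain ⟨x, a, ha, rfl⟩ := x
          refine ⟨ker_inv a hy, fun h => hy1 ((MulEquiv.map_eq_one_iff a).1 h), fun h => ?_⟩
          rw [← hfw a ha] at h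
          exact hyw (a.injective h)
        refine Nat.card_le_card_of_injective (Sum.elim
          (fun x => (⟨x.1, hm v hvK hv1 hvw x⟩ : {x : V // x ∈ K ∧ x ≠ 1 ∧ x ≠ w}))
          (fun x => (⟨x.1, hm z.1 z.2.1 z.2.2.1 z.2.2.2 x⟩ :
            {x : V // x ∈ K ∧ x ≠ 1 ∧ x ≠ w}))) ?_
        have hdis : ∀ (x : {x : V // ∃ a ∈ A, a v = x}) (y : {x : V // ∃ a ∈ A, a z.1 = x}),
            x.1 ≠ y.1 := by
          rintro ⟨x, a, ha, rfl⟩ ⟨y, b, hb, rfl⟩ hxy
          apply hzo
          refine ⟨b⁻¹ * a, A.mul_mem (A.inv_mem hb) ha, ?_⟩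
          rw [MulAut.mul_apply]
          change a v = b z.1 at hxy
          rw [hxy, MulAut.inv_apply_self]
        rintro (x | x) (y | y) hxy
        · exact congrArg Sum.inl (Subtype.ext (congrArg
            (fun z : {x : V // x ∈ K ∧ x ≠ 1 ∧ x ≠ w} => (z : V)) hxy))
        · exact absurd (congrArg
            (fun z : {x : V // x ∈ K ∧ x ≠ 1 ∧ x ≠ w} => (z : V)) hxy) (hdis x y)
        · exact absurd (congrArg
            (fun z : {x : V // x ∈ K ∧ x ≠ 1 ∧ x ≠ w} => (z : V)) hxy).symm (hdis y x)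
        · exact congrArg Sum.inr (Subtype.ext (congrArg
            (fun z : {x : V // x ∈ K ∧ x ≠ 1 ∧ x ≠ w} => (z : V)) hxy))
      rw [Nat.card_sum, h6, horb, horz, h] at h8
      omega

omit [Finite V] in
theorem four (x : V) : (x * x) * (x * x) = x ^ 4 := by
  rw [← pow_two (x * x), ← pow_two x, ← pow_mul]

/-- The group `C₄ × C₄`. -/
theorem iso_of_sq (h16 : Nat.card V = 16) (hK4 : Nat.card (sq V).ker = 4)
    (hKR : (sq V).range = (sq V).ker) :
    Nonempty (V ≃* Multiplicative (ZMod (2 ^ 2) × ZMod (2 ^ 2))) := by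
  classical
  -- two independent elements
  have hx4 : ∀ x : V, x ^ 4 = 1 := by
    intro x
    have h1 : x * x ∈ (sq V).ker := by
      rw [← hKR]
      exact ⟨x, rfl⟩
    rw [mem_ker] at h1
    rw [← four, h1]
  have h1 : (1 : V) ∈ (sq V).ker := one_mem _
  obtain ⟨a, haK, ha1⟩ : ∃ a ∈ (sq V).ker, a ≠ 1 := by
    by_contra hno
    push Not at hno
    have : (sq V).ker = ⊥ := (Subgroup.eq_bot_iff_forall _).2 hno
    rw [this, Subgroup.card_bot] at hK4
    omega
  have hcd := card_diff_one haK ha1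
  rw [hK4] at hcd
  have hne' : Nonempty {x : V // x ∈ (sq V).ker ∧ x ≠ 1 ∧ x ≠ a} := by
    rw [← Finite.card_pos_iff]
    omega
  obtain ⟨b, hbK, hb1, hba⟩ := hne'.some
  have hab1 : a * b ≠ 1 := by
    intro h
    apply hba
    have h2 : a * a = 1 := haK
    exact (mul_left_cancel (h2.trans h.symm)).symm
  rw [← hKR] at haK hbK
  obtain ⟨x, rfl⟩ := haK
  obtain ⟨y, rfl⟩ := hbK
  rw [sq_apply] at ha1 hb1 hba hab1
  -- the homomorphism
  let fx : ZMod (2 ^ 2) →+ Additive V := ZMod.lift (2 ^ 2) ⟨zmultiplesHom (Additive V)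
    (Additive.ofMul x), by
      change ((2 ^ 2 : ℕ) : ℤ) • Additive.ofMul x = 0
      rw [natCast_zsmul, ← ofMul_pow]
      exact congrArg Additive.ofMul (hx4 x)⟩
  let fy : ZMod (2 ^ 2) →+ Additive V := ZMod.lift (2 ^ 2) ⟨zmultiplesHom (Additive V)
    (Additive.ofMul y), by
      change ((2 ^ 2 : ℕ) : ℤ) • Additive.ofMul y = 0
      rw [natCast_zsmul, ← ofMul_pow]
      exact congrArg Additive.ofMul (hx4 y)⟩
  have hfx : ∀ n : ℕ, fx (n : ZMod (2 ^ 2)) = Additive.ofMul (x ^ n) := by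
    intro n
    have h2 := ZMod.lift_coe (2 ^ 2) (A := Additive V) ⟨zmultiplesHom (Additive V)
      (Additive.ofMul x), by
      change ((2 ^ 2 : ℕ) : ℤ) • Additive.ofMul x = 0
      rw [natCast_zsmul, ← ofMul_pow]
      exact congrArg Additive.ofMul (hx4 x)⟩ (n : ℤ)
    rw [Int.cast_natCast] at h2
    rw [ofMul_pow]
    refine h2.trans ?_
    change (n : ℤ) • Additive.ofMul x = _
    rw [natCast_zsmul]
  have hfy : ∀ n : ℕ, fy (n : ZMod (2 ^ 2)) = Additive.ofMul (y ^ n) := by
    intro n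
    have h2 := ZMod.lift_coe (2 ^ 2) (A := Additive V) ⟨zmultiplesHom (Additive V)
      (Additive.ofMul y), by
      change ((2 ^ 2 : ℕ) : ℤ) • Additive.ofMul y = 0
      rw [natCast_zsmul, ← ofMul_pow]
      exact congrArg Additive.ofMul (hx4 y)⟩ (n : ℤ)
    rw [Int.cast_natCast] at h2
    rw [ofMul_pow]
    refine h2.trans ?_
    change (n : ℤ) • Additive.ofMul y = _
    rw [natCast_zsmul]
  let f : ZMod (2 ^ 2) × ZMod (2 ^ 2) →+ Additive V := fx.coprod fy
  let F : Multiplicative (ZMod (2 ^ 2) × ZMod (2 ^ 2)) →* V := AddMonoidHom.toMultiplicativeLeft f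
  have hinj : Function.Injective f := by
    rw [injective_iff_map_eq_zero]
    rintro ⟨i, j⟩ hij
    have hij' : fx i + fy j = 0 := hij
    obtain ⟨m, hm, rfl⟩ : ∃ m : ℕ, m < 4 ∧ (m : ZMod (2 ^ 2)) = i :=
      ⟨i.val, ZMod.val_lt i, ZMod.natCast_zmod_val i⟩
    obtain ⟨n, hn, rfl⟩ : ∃ n : ℕ, n < 4 ∧ (n : ZMod (2 ^ 2)) = j :=
      ⟨j.val, ZMod.val_lt j, ZMod.natCast_zmod_val j⟩
    rw [hfx, hfy, ← ofMul_mul] at hij'
    have hij2 : x ^ m * y ^ n = 1 := hij'
    have hsq : (x * x) ^ m * (y * y) ^ n = 1 := by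
      calc (x * x) ^ m * (y * y) ^ n = (x ^ m * y ^ n) * (x ^ m * y ^ n) := by
            rw [mul_pow, mul_pow, mul_mul_mul_comm]
        _ = 1 := by rw [hij2, one_mul]
    have hxx : (x * x) * (x * x) = 1 := by rw [four, hx4]
    have hyy : (y * y) * (y * y) = 1 := by rw [four, hx4]
    have e2 : ∀ z : V, z * z = 1 → z ^ 2 = 1 := fun z hz => by rw [pow_two, hz]
    have e3 : ∀ z : V, z * z = 1 → z ^ 3 = z := fun z hz => by rw [pow_succ, e2 z hz, one_mul]
    have hgoal : m = 0 ∧ n = 0 := by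
      interval_cases m <;> interval_cases n
      all_goals
        simp only [pow_zero, pow_one, e2 _ hxx, e3 _ hxx, e2 _ hyy, e3 _ hyy, one_mul,
          mul_one] at hsq
      all_goals first
        | exact ⟨rfl, rfl⟩
        | exact absurd hsq ha1
        | exact absurd hsq hb1
        | exact absurd hsq hab1
        | (exfalso
           simp only [pow_zero, pow_two, one_mul, mul_one] at hij2
           first
             | exact ha1 hij2
             | exact hb1 hij2
             | exact hab1 hij2)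
    rw [hgoal.1, hgoal.2]
    rfl
  have hFinj : Function.Injective F := fun u v h => hinj h
  have hbij : Function.Bijective F := by
    rw [Nat.bijective_iff_injective_and_card]
    refine ⟨hFinj, ?_⟩
    rw [h16]
    have h3 : Nat.card (Multiplicative (ZMod (2 ^ 2) × ZMod (2 ^ 2))) =
        Nat.card (ZMod (2 ^ 2) × ZMod (2 ^ 2)) := rfl
    rw [h3, Nat.card_prod, Nat.card_zmod]
    norm_num
  exact ⟨(MulEquiv.ofBijective F hbij).symm⟩

end Cfsg.Agent.H624.AbSq
end

-- part: H639/DetGe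
section
/-!
# Gram determinants of integral matrices

`det_ge`: an integral `k × m` matrix of rank `m` without zero rows has Gram determinant at least
`k - m + 1`.
-/

set_option autoImplicit false
set_option linter.unusedSectionVars false

open Matrix

namespace Cfsg.Agent.H639.DetGe

variable {κ ι : Type*} [Fintype ι] [DecidableEq ι] [DecidableEq κ]

/-- The Gram matrix of the rows in `T`. -/
noncomputable def gR (a : κ → ι → ℝ) (T : Finset κ) : Matrix ι ι ℝ :=
  ∑ t ∈ T, vecMulVec (a t) (a t)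

theorem gR_def (a : κ → ι → ℝ) (T : Finset κ) :
    gR a T = ∑ t ∈ T, vecMulVec (a t) (a t) := rfl

theorem gR_posSemidef (a : κ → ι → ℝ) (T : Finset κ) : (gR a T).PosSemidef := by
  rw [gR_def]
  refine Matrix.posSemidef_sum T fun t _ => ?_
  have h := Matrix.posSemidef_vecMulVec_self_star (a t)
  simpa using h

theorem gR_erase (a : κ → ι → ℝ) {T : Finset κ} {t : κ} (ht : t ∈ T) :
    gR a (T.erase t) = gR a T + (Matrix.replicateCol Unit (-a t)) * Matrix.replicateRow Unit (a t) := by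
  rw [gR_def, gR_def, ← Finset.add_sum_erase T _ ht]
  ext i j
  simp [Matrix.mul_apply, vecMulVec_apply, Matrix.sum_apply]

theorem det_erase (a : κ → ι → ℝ) {T : Finset κ} {t : κ} (ht : t ∈ T) (h : (gR a T).det ≠ 0) :
    (gR a (T.erase t)).det = (gR a T).det * (1 - a t ⬝ᵥ ((gR a T)⁻¹ *ᵥ a t)) := by
  rw [gR_erase a ht, det_add_replicateCol_mul_replicateRow (Ne.isUnit h)]
  congr 1
  rw [Matrix.det_unique]
  simp only [Matrix.add_apply, Matrix.one_apply_eq]
  rw [Matrix.mul_assoc, sub_eq_add_neg]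
  congr 1
  rw [Matrix.mul_apply]
  simp only [Matrix.replicateRow_apply, dotProduct, Matrix.mul_apply, Matrix.replicateCol_apply,
    mulVec, Pi.neg_apply, mul_neg, Finset.sum_neg_distrib]

theorem dot_pos (a : κ → ι → ℝ) {T : Finset κ} {t : κ} (h : (gR a T).det ≠ 0) (hat : a t ≠ 0) :
    0 < a t ⬝ᵥ ((gR a T)⁻¹ *ᵥ a t) := by
  have h1 : (gR a T).PosDef := (gR_posSemidef a T).posDef_iff_det_ne_zero.2 h
  have h2 := h1.inv
  have h3 := (posDef_iff_dotProduct_mulVec.1 h2).2 hat
  simpa using h3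

theorem sum_dot (a : κ → ι → ℝ) {T : Finset κ} (h : (gR a T).det ≠ 0) :
    ∑ t ∈ T, a t ⬝ᵥ ((gR a T)⁻¹ *ᵥ a t) = Fintype.card ι := by
  have h1 : ∀ t, a t ⬝ᵥ ((gR a T)⁻¹ *ᵥ a t) = ((gR a T)⁻¹ * vecMulVec (a t) (a t)).trace := by
    intro t
    rw [Matrix.mul_vecMulVec, Matrix.trace_vecMulVec, dotProduct_comm]
  simp only [h1]
  rw [← Matrix.trace_sum, ← Matrix.mul_sum, ← gR_def, Matrix.nonsing_inv_mul _ (Ne.isUnit h),
    Matrix.trace_one]

theorem sum_det_erase (a : κ → ι → ℝ) {T : Finset κ} (h : (gR a T).det ≠ 0) :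
    ∑ t ∈ T, (gR a (T.erase t)).det = ((T.card : ℝ) - Fintype.card ι) * (gR a T).det := by
  rw [Finset.sum_congr rfl fun t ht => det_erase a ht h, ← Finset.mul_sum, Finset.sum_sub_distrib,
    sum_dot a h]
  simp [mul_comm]

/-- The integral version. -/
noncomputable def gZ (a : κ → ι → ℤ) (T : Finset κ) : Matrix ι ι ℤ :=
  ∑ t ∈ T, vecMulVec (a t) (a t)

theorem det_gZ (a : κ → ι → ℤ) (T : Finset κ) :
    ((gZ a T).det : ℝ) = (gR (fun t i => (a t i : ℝ)) T).det := by
  have h1 := RingHom.map_det (Int.castRingHom ℝ) (gZ a T)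
  rw [eq_intCast] at h1
  rw [h1]
  congr 1
  ext i j
  rw [gZ, gR_def]
  simp [Matrix.sum_apply, vecMulVec_apply]

theorem det_gZ_nonneg (a : κ → ι → ℤ) (T : Finset κ) : 0 ≤ (gZ a T).det := by
  have h := (gR_posSemidef (fun t i => (a t i : ℝ)) T).det_nonneg
  rw [← det_gZ] at h
  exact_mod_cast h

theorem card_le_det (a : κ → ι → ℤ) (ha : ∀ t, a t ≠ 0) :
    ∀ (n : ℕ) (T : Finset κ), T.card = n → (gZ a T).det ≠ 0 →
      (T.card : ℤ) + 1 ≤ (gZ a T).det + Fintype.card ι := by
  intro n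
  induction n with
  | zero =>
    intro T hT h
    have h1 := det_gZ_nonneg a T
    rw [hT]
    have h2 : 1 ≤ (gZ a T).det := by omega
    push_cast
    omega
  | succ n ih =>
    intro T hT h
    have h1 := det_gZ_nonneg a T
    have h2 : 1 ≤ (gZ a T).det := by omega
    by_cases hle : T.card ≤ Fintype.card ι
    · have : (T.card : ℤ) ≤ Fintype.card ι := by exact_mod_cast hle
      omega
    · push Not at hle
      have hR : (gR (fun t i => (a t i : ℝ)) T).det ≠ 0 := by
        rw [← det_gZ]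
        exact_mod_cast h
      have hsum := sum_det_erase (fun t i => (a t i : ℝ)) hR
      -- some `t` with positive determinant after removal
      have hex : ∃ t ∈ T, 0 < (gZ a (T.erase t)).det := by
        by_contra hcon
        push Not at hcon
        have h3 : ∑ t ∈ T, (gR (fun t i => (a t i : ℝ)) (T.erase t)).det ≤ 0 := by
          refine Finset.sum_nonpos fun t ht => ?_
          rw [← det_gZ]
          exact_mod_cast hcon t ht
        rw [hsum, ← det_gZ] at h3
        have h4 : (0 : ℝ) < (T.card : ℝ) - Fintype.card ι := by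
          rw [sub_pos]
          exact_mod_cast hle
        have h5 : (0 : ℝ) < ((gZ a T).det : ℝ) := by
          exact_mod_cast h2
        have h6 := mul_pos h4 h5
        linarith
      obtain ⟨t, ht, hpos⟩ := hex
      have h3 := ih (T.erase t) (by rw [Finset.card_erase_of_mem ht]; omega) hpos.ne'
      have h4 : (gZ a (T.erase t)).det < (gZ a T).det := by
        have h5 := det_erase (fun t i => (a t i : ℝ)) ht hR
        have hat : (fun i => (a t i : ℝ)) ≠ 0 := by
          intro h0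
          apply ha t
          funext i
          have := congrFun h0 i
          simpa using this
        have h6 := dot_pos (fun t i => (a t i : ℝ)) hR (t := t) hat
        have h7 : (0 : ℝ) < (gR (fun t i => (a t i : ℝ)) T).det := by
          rw [← det_gZ]
          exact_mod_cast h2
        have h8 : (gR (fun t i => (a t i : ℝ)) (T.erase t)).det <
            (gR (fun t i => (a t i : ℝ)) T).det := by
          rw [h5]
          nlinarith [mul_pos h7 h6]
        rw [← det_gZ, ← det_gZ] at h8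
        exact_mod_cast h8
      rw [Finset.card_erase_of_mem ht] at h3
      have h5 : 1 ≤ T.card := by omega
      push_cast [Nat.cast_sub h5] at h3
      omega

/-- An integral matrix without zero rows and with nonsingular Gram matrix. -/
theorem det_ge [Fintype κ] (A : Matrix κ ι ℤ) (hA : ∀ t, A t ≠ 0) (h : (Aᵀ * A).det ≠ 0) :
    (Fintype.card κ : ℤ) + 1 ≤ (Aᵀ * A).det + Fintype.card ι := by
  have h1 : gZ A Finset.univ = Aᵀ * A := by
    ext i j
    unfold gZ
    rw [Matrix.sum_apply, Matrix.mul_apply]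
    rfl
  rw [← h1] at h ⊢
  have h2 := card_le_det A hA _ Finset.univ rfl h
  rwa [Finset.card_univ] at h2

end Cfsg.Agent.H639.DetGe
end

-- part: H639/FormDet
section
/-!
# A positive form from a Gram determinant

`formBd_of_det`: let `α` be an integral matrix with rows indexed by the block `b`, without zero
rows, whose columns are relations between the restrictions to the `p`-regular elements, with
`k(b) - l(b)` columns and Gram determinant `n ≠ 0`.  Then there is a form with trace `n`.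
-/

set_option autoImplicit false
set_option linter.unusedSectionVars false

open Cfsg Matrix
open scoped ComplexConjugate

namespace Cfsg.Agent.H639.FormDet

open Cfsg.Agent.H616.Form
open Cfsg.Agent.H613.RegGram

universe u

section real

variable {κ ι μ : Type*} [Fintype κ] [Fintype ι] [Fintype μ] [DecidableEq κ] [DecidableEq ι]
  [DecidableEq μ]

/-- The real matrix of an integral matrix. -/
noncomputable abbrev toR {m n : Type*} (A : Matrix m n ℤ) : Matrix m n ℝ :=
  A.map (Int.cast : ℤ → ℝ)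

theorem toR_det (A : Matrix ι ι ℤ) : (toR A).det = (A.det : ℝ) := by
  have h1 := RingHom.map_det (Int.castRingHom ℝ) A
  rw [eq_intCast] at h1
  rw [h1]
  rfl

theorem toR_mul {m n o : Type*} [Fintype n] (A : Matrix m n ℤ) (B : Matrix n o ℤ) :
    toR (A * B) = toR A * toR B := by
  ext i j
  simp [Matrix.mul_apply]

/-- The orthogonal projection on the column space. -/
noncomputable def prj (D : Matrix κ μ ℝ) : Matrix κ κ ℝ := D * (Dᵀ * D)⁻¹ * Dᵀ

theorem prj_def (D : Matrix κ μ ℝ) : prj D = D * (Dᵀ * D)⁻¹ * Dᵀ := rfl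

theorem prj_transpose (D : Matrix κ μ ℝ) : (prj D)ᵀ = prj D := by
  rw [prj_def, Matrix.transpose_mul, Matrix.transpose_mul, Matrix.transpose_transpose,
    Matrix.transpose_nonsing_inv, Matrix.transpose_mul, Matrix.transpose_transpose,
    Matrix.mul_assoc]

theorem prj_mul_prj (D : Matrix κ μ ℝ) (hD : (Dᵀ * D).det ≠ 0) : prj D * prj D = prj D := by
  rw [prj_def]
  calc D * (Dᵀ * D)⁻¹ * Dᵀ * (D * (Dᵀ * D)⁻¹ * Dᵀ)
      = D * (Dᵀ * D)⁻¹ * ((Dᵀ * D) * (Dᵀ * D)⁻¹) * Dᵀ := by
        simp only [Matrix.mul_assoc]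
    _ = D * (Dᵀ * D)⁻¹ * Dᵀ := by
        rw [Matrix.mul_nonsing_inv _ (Ne.isUnit hD), Matrix.mul_one]

theorem trace_prj (D : Matrix κ μ ℝ) (hD : (Dᵀ * D).det ≠ 0) :
    (prj D).trace = Fintype.card μ := by
  rw [prj_def, Matrix.mul_assoc, Matrix.trace_mul_comm, Matrix.mul_assoc,
    Matrix.nonsing_inv_mul _ (Ne.isUnit hD), Matrix.trace_one]

/-- `1 = D (Dᵀ D)⁻¹ Dᵀ + α (αᵀ α)⁻¹ αᵀ`. -/
theorem prj_add_prj (D : Matrix κ μ ℝ) (α : Matrix κ ι ℝ)
    (hD : (Dᵀ * D).det ≠ 0) (hα : (αᵀ * α).det ≠ 0) (hDα : Dᵀ * α = 0)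
    (hcard : Fintype.card κ = Fintype.card μ + Fintype.card ι) :
    prj D + prj α = 1 := by
  have hαD : αᵀ * D = 0 := by
    have h := congrArg Matrix.transpose hDα
    rwa [Matrix.transpose_mul, Matrix.transpose_transpose, Matrix.transpose_zero] at h
  have h1 : Matrix.fromRows ((Dᵀ * D)⁻¹ * Dᵀ) ((αᵀ * α)⁻¹ * αᵀ) * Matrix.fromCols D α = 1 := by
    rw [Matrix.fromRows_mul_fromCols, Matrix.mul_assoc, Matrix.mul_assoc, Matrix.mul_assoc,
      Matrix.mul_assoc, hDα, hαD, Matrix.mul_zero, Matrix.mul_zero,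
      Matrix.nonsing_inv_mul _ (Ne.isUnit hD), Matrix.nonsing_inv_mul _ (Ne.isUnit hα),
      Matrix.fromBlocks_one]
  have h2 := (Matrix.mul_eq_one_comm_of_card_eq (μ ⊕ ι) κ ℝ (by
    rw [Fintype.card_sum, hcard])).1 h1
  rw [Matrix.fromCols_mul_fromRows] at h2
  rw [prj_def, prj_def, Matrix.mul_assoc, Matrix.mul_assoc α]
  exact h2

/-- The key inequality. -/
theorem card_le_det_mul (D : Matrix κ μ ℤ) (α : Matrix κ ι ℤ) (hrow : ∀ k, α k ≠ 0)
    (hD : (Dᵀ * D).det ≠ 0) (hα : (αᵀ * α).det ≠ 0) (hDα : Dᵀ * α = 0)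
    (hcard : Fintype.card κ = Fintype.card μ + Fintype.card ι) {c : κ → ℤ}
    (hc : Dᵀ *ᵥ c ≠ 0) :
    (Fintype.card μ : ℝ) ≤
      ((αᵀ * α).det : ℝ) * ((fun k => (c k : ℝ)) ⬝ᵥ (prj (toR D) *ᵥ fun k => (c k : ℝ))) := by
  classical
  set A : Matrix κ (ι ⊕ Unit) ℤ := Matrix.fromCols α (Matrix.replicateCol Unit c) with hA
  set x : κ → ℝ := fun k => (c k : ℝ) with hx
  have hDR : ((toR D)ᵀ * toR D).det ≠ 0 := by
    have h : (toR D)ᵀ * toR D = toR (Dᵀ * D) := by rw [toR_mul]; rfl
    rw [h, toR_det]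
    exact_mod_cast hD
  have hαR' : (toR α)ᵀ * toR α = toR (αᵀ * α) := by rw [toR_mul]; rfl
  have hαR : ((toR α)ᵀ * toR α).det ≠ 0 := by
    rw [hαR', toR_det]
    exact_mod_cast hα
  have hDαR : (toR D)ᵀ * toR α = 0 := by
    have h : (toR D)ᵀ * toR α = toR (Dᵀ * α) := by rw [toR_mul]; rfl
    rw [h, hDα]
    ext i j
    simp
  have hone := prj_add_prj (toR D) (toR α) hDR hαR hDαR hcard
  -- the determinant
  have hdet : ((Aᵀ * A).det : ℝ) = ((αᵀ * α).det : ℝ) * (x ⬝ᵥ (prj (toR D) *ᵥ x)) := by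
    have h1 : toR (Aᵀ * A) = Matrix.fromBlocks ((toR α)ᵀ * toR α)
        ((toR α)ᵀ * Matrix.replicateCol Unit x) (Matrix.replicateRow Unit x * toR α)
        (Matrix.replicateRow Unit x * Matrix.replicateCol Unit x) := by
      ext i j
      rcases i with i | i <;> rcases j with j | j <;>
        simp [hA, hx, Matrix.mul_apply]
    rw [← toR_det, h1]
    have : Invertible ((toR α)ᵀ * toR α) := Matrix.invertibleOfIsUnitDet _ (Ne.isUnit hαR)
    rw [Matrix.det_fromBlocks₁₁, Matrix.invOf_eq_nonsing_inv, hαR', toR_det]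
    congr 1
    rw [Matrix.det_unique, Matrix.sub_apply]
    have h2 : prj (toR D) = 1 - prj (toR α) := by rw [← hone]; simp
    have h3 : Matrix.replicateRow Unit x * toR α * (toR (αᵀ * α))⁻¹ *
        ((toR α)ᵀ * Matrix.replicateCol Unit x) = Matrix.replicateRow Unit x *
        (prj (toR α) * Matrix.replicateCol Unit x) := by
      rw [prj_def, hαR']
      simp only [Matrix.mul_assoc]
    have h4 : (Matrix.replicateRow Unit x * Matrix.replicateCol Unit x) default default =
        x ⬝ᵥ x := rfl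
    have h5 : (Matrix.replicateRow Unit x * (prj (toR α) * Matrix.replicateCol Unit x))
        default default = x ⬝ᵥ (prj (toR α) *ᵥ x) := rfl
    rw [h2, Matrix.sub_mulVec, Matrix.one_mulVec, dotProduct_sub, h3, h4, h5]
  -- it does not vanish
  have hpos : 0 < x ⬝ᵥ (prj (toR D) *ᵥ x) := by
    have h1 : ((toR D)ᵀ * toR D).PosDef := by
      have h2 := Matrix.posSemidef_conjTranspose_mul_self (toR D)
      rw [Matrix.conjTranspose_eq_transpose_of_trivial] at h2
      exact h2.posDef_iff_det_ne_zero.2 hDR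
    have h2 := h1.inv
    have hne : (toR D)ᵀ *ᵥ x ≠ 0 := by
      intro h0
      apply hc
      funext j
      have h3 := congrFun h0 j
      simp only [Matrix.mulVec, dotProduct, Matrix.transpose_apply, hx, Matrix.map_apply,
        Pi.zero_apply] at h3
      simp only [Matrix.mulVec, dotProduct, Matrix.transpose_apply, Pi.zero_apply]
      exact_mod_cast h3
    have h3 := (posDef_iff_dotProduct_mulVec.1 h2).2 hne
    have h4 : x ⬝ᵥ (prj (toR D) *ᵥ x) =
        ((toR D)ᵀ *ᵥ x) ⬝ᵥ (((toR D)ᵀ * toR D)⁻¹ *ᵥ ((toR D)ᵀ *ᵥ x)) := by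
      rw [prj_def, Matrix.mul_assoc, ← Matrix.mulVec_mulVec, ← Matrix.mulVec_mulVec,
        Matrix.dotProduct_mulVec, ← Matrix.mulVec_transpose]
    rw [h4]
    simpa using h3
  have hdet0 : (Aᵀ * A).det ≠ 0 := by
    intro h0
    rw [h0, Int.cast_zero] at hdet
    exact (mul_pos_iff_of_pos_right hpos |>.2 (by
      have : (0 : ℝ) < ((toR α)ᵀ * toR α).det := by
        have h2 := Matrix.posSemidef_conjTranspose_mul_self (toR α)
        rw [Matrix.conjTranspose_eq_transpose_of_trivial] at h2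
        exact (h2.posDef_iff_det_ne_zero.2 hαR).det_pos
      rwa [hαR', toR_det] at this)).ne hdet
  have h5 := DetGe.det_ge A (fun k h0 => hrow k (by
    funext i
    have := congrFun h0 (Sum.inl i)
    simpa [hA] using this)) hdet0
  rw [← hdet]
  rw [Fintype.card_sum, Fintype.card_unit, hcard] at h5
  have h6 : (Fintype.card μ : ℤ) ≤ (Aᵀ * A).det := by
    push_cast at h5
    omega
  exact_mod_cast h6

end real

variable {H : Type u} [Group H] [Finite H] {p : ℕ} [Fact p.Prime] {M : Ideal AlgInt}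
  {b : Set (IrrCharacter H)}

/-- **The form of a Gram determinant.** -/
theorem formBd_of_det [Fintype b] {ι : Type*} [Fintype ι] [DecidableEq ι] (hM : IsPModular p M)
    (hb : IsPBlock M b) (α : Matrix b ι ℤ) (hrow : ∀ ψ, α ψ ≠ 0)
    (hrel : ∀ i, Rel p b (fun ψ => α ψ i))
    (hcard : Fintype.card b = blockRank p b + Fintype.card ι) {n : ℕ} (hn : n ≠ 0)
    (hdet : (αᵀ * α).det = n) : FormBd p b n := by
  classical
  have hrows := exists_rows hM hb
  generalize blockRank p b = l at hrows hcard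
  obtain ⟨D₀, hD, E₀, hE⟩ := hrows
  set D : Matrix b (Fin l) ℤ := D₀ with hDdef
  have hα : (αᵀ * α).det ≠ 0 := by
    rw [hdet]
    exact_mod_cast hn
  have hDα : Dᵀ * α = 0 := by
    ext j i
    have h1 := (hD _).1 (hrel i) j
    rw [Matrix.mul_apply, Matrix.zero_apply, ← h1]
    exact Finset.sum_congr rfl fun ψ _ => mul_comm _ _
  have hED : (Matrix.of E₀ : Matrix (Fin l) b ℤ) * D = 1 := by
    ext i j
    rw [Matrix.mul_apply, Matrix.one_apply]
    exact hE i j
  have hDR : ((toR D)ᵀ * toR D).det ≠ 0 := by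
    have h2 := Matrix.posSemidef_conjTranspose_mul_self (toR D)
    rw [Matrix.conjTranspose_eq_transpose_of_trivial] at h2
    have h3 : ((toR D)ᵀ * toR D).PosDef := by
      refine (Matrix.posDef_iff_dotProduct_mulVec).2 ⟨h2.1, fun {x} hx => ?_⟩
      have h4 : 0 ≤ star x ⬝ᵥ (((toR D)ᵀ * toR D) *ᵥ x) := h2.dotProduct_mulVec_nonneg x
      refine lt_of_le_of_ne h4 fun h5 => hx ?_
      have h6 : (toR D *ᵥ x) ⬝ᵥ (toR D *ᵥ x) = 0 := by
        rw [h5, ← Matrix.mulVec_mulVec, Matrix.dotProduct_mulVec, ← Matrix.mulVec_transpose,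
          dotProduct_comm]
        simp
      rw [dotProduct_self_eq_zero] at h6
      have h7 : toR (Matrix.of E₀ : Matrix (Fin l) b ℤ) * toR D = 1 := by
        rw [← toR_mul, hED]
        ext i j
        simp only [toR, Matrix.map_apply, Matrix.one_apply]
        split_ifs <;> simp
      rw [← Matrix.one_mulVec x, ← h7, ← Matrix.mulVec_mulVec, h6, Matrix.mulVec_zero]
    exact h3.det_pos.ne'
  have hDZ : (Dᵀ * D).det ≠ 0 := by
    intro h0
    apply hDR
    have h : (toR D)ᵀ * toR D = toR (Dᵀ * D) := by rw [toR_mul]; rfl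
    rw [h, toR_det, h0, Int.cast_zero]
  set P := prj (toR D) with hP
  have hPP : P * P = P := prj_mul_prj _ hDR
  have hPT : Pᵀ = P := prj_transpose _
  have hPtr : P.trace = l := by rw [hP, trace_prj _ hDR, Fintype.card_fin]
  set s : ℝ := Real.sqrt ((n : ℝ) / l) with hs
  have hs2 : s ^ 2 = (n : ℝ) / l := Real.sq_sqrt (by positivity)
  -- the norm
  have hnorm : ∀ x : b → ℝ, ∑ i, (∑ ψ, x ψ * (s * P i ψ)) ^ 2 = (n : ℝ) / l * (x ⬝ᵥ (P *ᵥ x)) := by
    intro x
    have h1 : ∀ i, ∑ ψ, x ψ * (s * P i ψ) = s * (P *ᵥ x) i := by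
      intro i
      rw [Matrix.mulVec, dotProduct, Finset.mul_sum]
      exact Finset.sum_congr rfl fun ψ _ => by ring
    simp only [h1, mul_pow, hs2]
    rw [← Finset.mul_sum]
    congr 1
    have h2 : ∑ i, (P *ᵥ x) i ^ 2 = (P *ᵥ x) ⬝ᵥ (P *ᵥ x) := by
      rw [dotProduct]
      exact Finset.sum_congr rfl fun i _ => by ring
    rw [h2, Matrix.dotProduct_mulVec, ← Matrix.mulVec_transpose, hPT, Matrix.mulVec_mulVec, hPP,
      dotProduct_comm]
  refine IsForm.formBd (T := fun ψ i => s * P i ψ) ⟨?_, ?_, ?_⟩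
  · intro c hc i
    have h1 : (toR D)ᵀ *ᵥ (fun ψ => (c ψ : ℝ)) = 0 := by
      funext j
      have h2 := (hD c).1 hc j
      simp only [Matrix.mulVec, dotProduct, Matrix.transpose_apply, Matrix.map_apply,
        Pi.zero_apply]
      have h3 : ((∑ ψ, c ψ * D ψ j : ℤ) : ℝ) = 0 := by rw [h2]; simp
      push_cast at h3
      rw [← h3]
      exact Finset.sum_congr rfl fun ψ _ => mul_comm _ _
    have h2 : P *ᵥ (fun ψ => (c ψ : ℝ)) = 0 := by
      rw [hP, prj_def, Matrix.mul_assoc, ← Matrix.mulVec_mulVec, ← Matrix.mulVec_mulVec, h1,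
        Matrix.mulVec_zero, Matrix.mulVec_zero]
    have h3 := congrFun h2 i
    rw [Matrix.mulVec, dotProduct] at h3
    have h4 : ∑ ψ, (c ψ : ℝ) * (s * P i ψ) = s * ∑ ψ, P i ψ * (c ψ : ℝ) := by
      rw [Finset.mul_sum]
      exact Finset.sum_congr rfl fun ψ _ => by ring
    rw [h4, h3, Pi.zero_apply, mul_zero]
  · intro c hc
    rw [hnorm]
    have hc' : Dᵀ *ᵥ c ≠ 0 := by
      intro h0
      apply hc
      rw [hD]
      intro j
      have h1 := congrFun h0 j
      simp only [Matrix.mulVec, dotProduct, Matrix.transpose_apply, Pi.zero_apply] at h1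
      rw [← h1]
      exact Finset.sum_congr rfl fun ψ _ => mul_comm _ _
    have h1 := card_le_det_mul D α hrow hDZ hα hDα (by rw [hcard, Fintype.card_fin]) hc'
    rw [Fintype.card_fin, hdet] at h1
    have hl0 : (0 : ℝ) < l := by
      rw [Nat.cast_pos]
      rcases Nat.eq_zero_or_pos l with h0 | h0
      · exfalso
        apply hc'
        funext j
        exact absurd j.2 (by omega)
      · exact h0
    rw [div_mul_eq_mul_div, le_div_iff₀ hl0, one_mul]
    push_cast at h1
    exact h1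
  · have h1 : ∀ ψ, ∑ i, (s * P i ψ) ^ 2 = (n : ℝ) / l * P ψ ψ := by
      intro ψ
      simp only [mul_pow, hs2]
      rw [← Finset.mul_sum]
      congr 1
      have h2 : P ψ ψ = (Pᵀ * P) ψ ψ := by rw [hPT, hPP]
      rw [h2, Matrix.mul_apply]
      exact Finset.sum_congr rfl fun i _ => by rw [Matrix.transpose_apply]; ring
    simp only [h1]
    rw [← Finset.mul_sum]
    have h2 : ∑ ψ, P ψ ψ = l := hPtr
    rw [h2]
    rcases Nat.eq_zero_or_pos l with h0 | h0
    · rw [h0]
      simp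
    · have hl0 : (l : ℝ) ≠ 0 := by exact_mod_cast h0.ne'
      rw [div_mul_cancel₀ _ hl0]

end Cfsg.Agent.H639.FormDet
end

-- part: H639/FormFree
section
/-!
# The form of a block with abelian defect group and free inertial action

`formBd_of_free`: if the inertial quotient acts freely on the abelian defect group `D ≠ 1`, then
there is a form with trace `|D|`.
-/

set_option autoImplicit false
set_option linter.unusedSectionVars false

open Cfsg Matrix
open scoped ComplexConjugate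

namespace Cfsg.Agent.H639

open Cfsg.Agent.Blocks.Blau Cfsg.Agent.Blocks.Local Cfsg.Agent.Characters
open Cfsg.Agent.H613.RegGram Cfsg.Agent.H613.Contrib
open Cfsg.Agent.H649 Cfsg.Agent.H651
open Cfsg.Agent.H616.Form Cfsg.Agent.H639.FormDet
open Cfsg.Agent.Blocks.Basic (isPBlock_blockOf mem_blockOf_self isPBlock_eq_blockOf
  isPBlock_eq_of_mem isPBlock_nonempty)

universe u

section full

variable {G : Type u} [Group G] [Fintype G] {p : ℕ} [Fact p.Prime]
  {M : Ideal AlgInt} [M.IsPrime] {B : Set (IrrCharacter G)} {a : BrauerPairIdx G}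
  {c : ∀ R : Subgroup G, Set (IrrCharacter (Subgroup.centralizer (R : Set G)))}
  {ζ : Subgroup G → G → ℂ}

namespace Full

/-- The columns are relations. -/
theorem sum_wB_mul_apply (hF : Full p M B a c ζ) [Fintype B] (ν : a.1 →* ℂˣ)
    {y : G} (hy : ¬ p ∣ orderOf y) :
    ∑ χ : B, wB p a.1 ζ (χ.1 : G → ℂ) ν * (χ.1 : G → ℂ) y = 0 := by
  classical
  have h1 : ∀ χ : B, wB p a.1 ζ (χ.1 : G → ℂ) ν * (χ.1 : G → ℂ) y =
      ∑ v : a.1, (Nat.card a.1 : ℂ)⁻¹ * ((ν v : ℂ) - 1) *
        ((χ.1 : G → ℂ) y * conj (AA p a.1 ζ ⊥ (v : G) (χ.1 : G → ℂ))) := by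
    intro χ
    rw [wB, Finset.mul_sum, Finset.sum_mul]
    refine Finset.sum_congr ?_ fun v _ => by ring
    ext x
    simp
  rw [Finset.sum_congr rfl fun χ _ => h1 χ, Finset.sum_comm]
  refine Finset.sum_eq_zero fun v _ => ?_
  rw [← Finset.mul_sum]
  by_cases hv : v = 1
  · rw [hv, map_one, Units.val_one, sub_self, mul_zero, zero_mul]
  · rw [hF.sum_apply_mul_conj_AA hv hy, mul_zero]

theorem formBd (hF : Full p M B a c ζ) : FormBd p B (Nat.card a.1) := by
  classical
  have hfinG := Core.finite_irr (G := G)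
  have : Fintype B := Fintype.ofFinite _
  have := hF.finite_Orb
  have : Fintype (Orb a) := Fintype.ofFinite _
  have hB : IsPBlock M B := hF.hs.isPBlock_B
  obtain ⟨α, hα, hgram, hne⟩ := hF.exists_matrix
  have hG : (Matrix.of α : Matrix B (Orb a) ℤ)ᵀ * (Matrix.of α : Matrix B (Orb a) ℤ) =
      (1 : Matrix (Orb a) (Orb a) ℤ) +
        (Matrix.replicateCol Unit (fun _ : Orb a => ((Nat.card (inQ a) : ℕ) : ℤ)) :
          Matrix (Orb a) Unit ℤ) *
        (Matrix.replicateRow Unit (fun _ : Orb a => (1 : ℤ)) : Matrix Unit (Orb a) ℤ) := by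
    ext i j
    have h1 := hgram i j
    simp only [Matrix.mul_apply, Matrix.transpose_apply, Matrix.of_apply, Matrix.add_apply,
      Matrix.one_apply, Matrix.replicateCol_apply, Matrix.replicateRow_apply, Finset.univ_unique,
      Finset.sum_const, Finset.card_singleton, one_smul, mul_one]
    rw [h1, add_comm]
  refine formBd_of_det hF.hs.hM hB (Matrix.of α) ?_ ?_ ?_ Nat.card_pos.ne' ?_
  · intro χ h0
    obtain ⟨i, hi⟩ := hne χ
    exact hi (congrFun h0 i)
  · intro i g hg
    obtain ⟨ν, rfl⟩ := Quotient.exists_rep i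
    rw [← hF.sum_wB_mul_apply ν.1 hg]
    refine Finset.sum_congr rfl fun χ _ => ?_
    rw [hα]
    rfl
  · rw [← Nat.card_eq_fintype_card, hF.card_eq_add, ← Nat.card_eq_fintype_card]
  · rw [hG, Matrix.det_one_add_replicateCol_mul_replicateRow]
    have h2 := hF.card_Orb
    rw [dotProduct]
    simp only [one_mul, Finset.sum_const, Finset.card_univ, nsmul_eq_mul]
    rw [← h2]
    push_cast
    rw [Nat.card_eq_fintype_card (α := Orb a)]
    ring

end Full

end full

variable {G : Type u} [Group G] [Finite G] {p : ℕ} [Fact p.Prime] {M : Ideal AlgInt}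
  {B : Set (IrrCharacter G)} {a : BrauerPairIdx G}

/-- **The form of a block with abelian defect group and free inertial action.** -/
theorem formBd_of_free (hM : IsPModular p M) (hmax : IsMaximalBrauerPair p M B a.1 a.2)
    (hab : ∀ x ∈ a.1, ∀ y ∈ a.1, x * y = y * x) (hfree : Free a) (hne : a.1 ≠ ⊥) :
    FormBd p B (Nat.card a.1) := by
  have := Fintype.ofFinite G
  have := isPrime_of hM
  obtain ⟨c, ζ, hF⟩ := Full.exists hM hmax hab hfree hne
  exact hF.formBd

/-- The rank is at most the inertial index. -/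
theorem blockRank_le_of_free (hM : IsPModular p M) (hmax : IsMaximalBrauerPair p M B a.1 a.2)
    (hab : ∀ x ∈ a.1, ∀ y ∈ a.1, x * y = y * x) (hfree : Free a) (hne : a.1 ≠ ⊥) :
    blockRank p B ≤ (Subgroup.centralizer (a.1 : Set G)).relIndex (H645.FusCount.stab a) := by
  have := Fintype.ofFinite G
  have := isPrime_of hM
  obtain ⟨c, ζ, hF⟩ := Full.exists hM hmax hab hfree hne
  have h1 : stabT a = H645.FusCount.stab a := by
    ext x
    exact Iff.rfl
  rw [← h1, ← card_inQ hF.hs]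
  exact hF.blockRank_le

end Cfsg.Agent.H639
end

-- part: H639/FormFree2
section
/-!
# Forms of blocks with cyclic defect groups, and of small free actions

* `formBd_of_defect_zero`;
* `formBd_of_isCyclic`: the form of a block with cyclic defect group;
* `free_of_five`, `formBd_of_five`: order `16`, inertial index `5`.
-/

set_option autoImplicit false
set_option linter.unusedSectionVars false

open Cfsg Matrix
open scoped ComplexConjugate

namespace Cfsg.Agent.H639

open Cfsg.Agent.Blocks.Blau Cfsg.Agent.Blocks.Local Cfsg.Agent.Characters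
open Cfsg.Agent.H613.RegGram Cfsg.Agent.H613.Contrib
open Cfsg.Agent.H649 Cfsg.Agent.H651
open Cfsg.Agent.H616.Form Cfsg.Agent.H639.FormDet
open Cfsg.Agent.H645.FusCount Cfsg.Agent.H645.TraceForm
open Cfsg.Agent.Blocks.Basic (isPBlock_blockOf mem_blockOf_self isPBlock_eq_blockOf
  isPBlock_eq_of_mem isPBlock_nonempty)

universe u

variable {G : Type u} [Group G] [Finite G] {p : ℕ} [Fact p.Prime] {M : Ideal AlgInt}
  {B : Set (IrrCharacter G)} {a : BrauerPairIdx G}

/-- Defect zero. -/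
theorem formBd_of_defect_zero (hM : IsPModular p M) (hB : IsPBlock M B)
    (h0 : blockDefect p B = 0) : FormBd p B 1 := by
  classical
  have hfinG := Core.finite_irr (G := G)
  have : Fintype B := Fintype.ofFinite _
  have h1 := ((S4733.result p M hM B hB).2.1.1 h0).1
  obtain ⟨hsub, ⟨ψ⟩⟩ := Nat.card_eq_one_iff_unique.1 h1
  have huniv : (Finset.univ : Finset B) = {ψ} := by
    ext x
    simp [Subsingleton.elim x ψ]
  have hψ : ((ψ : IrrCharacter G) : G → ℂ) 1 ≠ 0 := Core.isIrr_apply_one_ne_zero ψ.1.2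
  refine IsForm.formBd (κ := Unit) (T := fun _ _ => (1 : ℝ)) ⟨?_, ?_, ?_⟩
  · intro c hc i
    have h2 := hc 1 (by rw [orderOf_one]; exact (Fact.out : p.Prime).one_lt.not_ge ∘ Nat.le_of_dvd one_pos)
    rw [huniv, Finset.sum_singleton] at h2 ⊢
    have h3 := (mul_eq_zero.1 h2).resolve_right hψ
    have h4 : c ψ = 0 := by exact_mod_cast h3
    rw [h4]; simp
  · intro c hc
    have h3 : c ψ ≠ 0 := by
      intro h4
      apply hc
      intro g _
      rw [huniv, Finset.sum_singleton, h4, Int.cast_zero, zero_mul]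
    rw [huniv]
    simp only [Finset.univ_unique, Finset.sum_singleton, mul_one]
    have h4 : 1 ≤ (c ψ) ^ 2 := by
      have := sq_pos_of_ne_zero h3
      omega
    exact_mod_cast h4
  · rw [huniv]
    simp

/-- The inertial action on a cyclic defect group is free. -/
theorem free_of_isCyclic (hM : IsPModular p M) (hmax : IsMaximalBrauerPair p M B a.1 a.2)
    (hcyc : IsCyclic a.1) : Free a := by
  have := Fintype.ofFinite G
  have := isPrime_of hM
  have hab : ∀ x ∈ a.1, ∀ y ∈ a.1, x * y = y * x := by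
    intro x hx y hy
    have h := (IsCyclic.isMulCommutative (α := a.1)).is_comm
    exact congrArg Subtype.val (h.comm (⟨x, hx⟩ : a.1) ⟨y, hy⟩)
  have h1 := not_dvd_relIndex_stab hM hmax hab
  intro t ht x hx hx1 htx
  exact Cfsg.Agent.H641.mem_centralizer_of_relIndex (Fact.out : p.Prime) hmax.1.1.1 hcyc
    (T := stab a) (stab_le_normalizer hM hmax hab) (H617.AbelRank.centralizer_le_stab hM hmax hab)
    h1 ht hx hx1 htx

/-- **The form of a block with cyclic defect group.** -/
theorem formBd_of_isCyclic (hM : IsPModular p M) (hB : IsPBlock M B) {D : Subgroup G}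
    (hD : IsDefectGroup p M B D) (hc : IsCyclic D) : FormBd p B (Nat.card D) := by
  have := isPrime_of hM
  by_cases h0 : D = ⊥
  · have h1 := S0908.result p M hM B hB D hD
    rw [h0, Subgroup.card_bot] at h1 ⊢
    refine formBd_of_defect_zero hM hB ?_
    by_contra h2
    have h3 := Nat.one_lt_pow h2 (Fact.out : p.Prime).one_lt
    omega
  · obtain ⟨e, he⟩ := Cfsg.Agent.H644.exists_pair_of_le_isDefectGroup hM hB hD le_rfl
    have hmax := Cfsg.Agent.H644.isMaximalBrauerPair_of_isDefectGroup hM he hD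
    have hab : ∀ x ∈ D, ∀ y ∈ D, x * y = y * x := by
      intro x hx y hy
      have h := (IsCyclic.isMulCommutative (α := D)).is_comm
      exact congrArg Subtype.val (h.comm (⟨x, hx⟩ : D) ⟨y, hy⟩)
    exact formBd_of_free (a := ⟨D, e⟩) hM hmax hab (free_of_isCyclic hM hmax hc) h0

theorem five_aux {n : ℕ} (h : 16 ≡ n [MOD 5]) (hd : n ∣ 16) (h1 : n ≠ 1) : n = 16 := by
  have h2 : n ≤ 16 := Nat.le_of_dvd (by norm_num) hd
  have h3 : 0 < n := Nat.pos_of_dvd_of_pos hd (by norm_num)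
  unfold Nat.ModEq at h
  interval_cases n <;> omega

/-- Inertial index `5`, order `16`. -/
theorem free_of_five [Fact (Nat.Prime 2)] {M : Ideal AlgInt} (hM : IsPModular 2 M)
    (hmax : IsMaximalBrauerPair 2 M B a.1 a.2)
    (hab : ∀ x ∈ a.1, ∀ y ∈ a.1, x * y = y * x) (hcard : Nat.card a.1 = 16)
    (hidx : (Subgroup.centralizer (a.1 : Set G)).relIndex (stab a) = 5) : Free a := by
  have := Fintype.ofFinite G
  have := isPrime_of hM
  have hp5 : Fact (Nat.Prime 5) := ⟨by norm_num⟩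
  obtain ⟨c, hs⟩ := Sys.exists hM hmax hab
  have h5 : Nat.card (inQ a) = 5 := by rw [card_inQ hs, ← hidx]; rfl
  have hC := H617.AbelRank.centralizer_le_stab hM hmax hab
  intro t ht x hx hx1 htx
  by_contra htC
  -- `x` is fixed by the whole stabilizer
  have hfix : ∀ s ∈ stab a, s * x * s⁻¹ = x := by
    by_contra hcon
    have h1 := H617.AbelRank.inf_eq_of_prime hM hmax hab (by norm_num : Nat.Prime 5) hidx hx hcon
    apply htC
    rw [h1]
    refine Subgroup.mem_inf.2 ⟨ht, Subgroup.mem_centralizer_singleton_iff.2 ?_⟩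
    calc t * x = t * x * t⁻¹ * t := by group
      _ = x * t := by rw [htx]
  -- counting fixed points
  have hPG : IsPGroup 5 (inQ a) := IsPGroup.of_card (n := 1) (by rw [h5, pow_one])
  have hmod := hPG.card_modEq_card_fixedPoints a.1
  set F : Subgroup a.1 := FixedPoints.subgroup (inQ a) a.1 with hF
  have hFcard : Nat.card F = Nat.card (MulAction.fixedPoints (inQ a) a.1) := rfl
  rw [← hFcard, hcard] at hmod
  have hdvd : Nat.card F ∣ 16 := hcard ▸ Subgroup.card_subgroup_dvd_card F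
  have hxF : (⟨x, hx⟩ : a.1) ∈ F := by
    rintro ⟨τ, s, rfl⟩
    exact Subtype.ext (hfix s s.2)
  have hF1 : Nat.card F ≠ 1 := by
    intro h
    have h2 := (Subgroup.card_eq_one (H := F)).1 h
    rw [h2, Subgroup.mem_bot] at hxF
    exact hx1 (congrArg Subtype.val hxF)
  have hF16 : Nat.card F = 16 := five_aux hmod hdvd hF1
  have hFtop : F = ⊤ := Subgroup.eq_top_of_card_eq F (by rw [hF16, hcard])
  apply htC
  have h6 : (⟨t, ht⟩ : stabT a) ∈ (autHom a).ker := by
    rw [MonoidHom.mem_ker]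
    ext v
    have h7 : v ∈ F := by rw [hFtop]; exact Subgroup.mem_top v
    have h8 : (⟨autHom a ⟨t, ht⟩, ⟨⟨t, ht⟩, rfl⟩⟩ : inQ a) • v = v := h7 _
    exact congrArg Subtype.val h8
  exact (mem_ker_autHom _).1 h6

/-- Package D1. -/
theorem formBd_of_five [Fact (Nat.Prime 2)] {M : Ideal AlgInt} (hM : IsPModular 2 M)
    (hmax : IsMaximalBrauerPair 2 M B a.1 a.2)
    (hab : ∀ x ∈ a.1, ∀ y ∈ a.1, x * y = y * x) (hcard : Nat.card a.1 = 16)
    (hidx : (Subgroup.centralizer (a.1 : Set G)).relIndex (stab a) = 5) : FormBd 2 B 16 := by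
  rw [← hcard]
  refine formBd_of_free hM hmax hab (free_of_five hM hmax hab hcard hidx) ?_
  intro h
  rw [h, Subgroup.card_bot] at hcard
  omega

/-- Inertial index `1`. -/
theorem free_of_one (hidx : (Subgroup.centralizer (a.1 : Set G)).relIndex (stab a) = 1) :
    Free a := by
  intro t ht x _ _ _
  exact Subgroup.relIndex_eq_one.1 hidx ht

end Cfsg.Agent.H639
end

-- part: H624/AbRank
section
/-!
# Ranks and forms of `2`-blocks with abelian defect groups of order at most `16`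

* `free_of_autG`: freeness in terms of the group of automorphisms `autG a`;
* `local_of_one`, `local_of_three`, `local_of_five`: inertial index `1`, `3`, `5`;
* `rank_le_three_of_sq`: abelian, not elementary, of order at most `16`.
-/

set_option autoImplicit false
set_option linter.unusedSectionVars false

open Cfsg
open scoped ComplexConjugate

namespace Cfsg.Agent.H624.AbRank

open Cfsg.Agent.H651 Cfsg.Agent.H649 Cfsg.Agent.Characters
open Cfsg.Agent.H652.DoubleCount Cfsg.Agent.H645.FusCount Cfsg.Agent.H650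
open Cfsg.Agent.H645.TraceForm Cfsg.Agent.H645.LocMono Cfsg.Agent.H645.Watanabe
open Cfsg.Agent.H617.AbelRank Cfsg.Agent.H617.StarAut
open Cfsg.Agent.H639 Cfsg.Agent.H616.Form Cfsg.Agent.H624.AbSq
open Cfsg.Agent.H809.OddAct (St Fx mem_Fx)

universe u

section group

variable {V : Type*} [Group V] [Finite V]

theorem fix_group (hab : ∀ x y : V, x * y = y * x) (hV : IsPGroup 2 V) (hcard : Nat.card V ≤ 16)
    {A : Subgroup (MulAut V)} (h3 : Nat.card A = 3) :
    4 * Nat.card {x : V // ∀ s ∈ A, s x = x} = Nat.card V ∨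
      (Nat.card V = 16 ∧ Nat.card {x : V // ∀ s ∈ A, s x = x} = 1) := by
  let _ : CommGroup V := { ‹Group V› with mul_comm := hab }
  exact fix_of_three (V := V) (A := A) hV hcard h3

theorem sq_group (hab : ∀ x y : V, x * y = y * x) (hV : IsPGroup 2 V) (hcard : Nat.card V ≤ 16)
    (hne : ∃ x : V, x * x ≠ 1) {A : Subgroup (MulAut V)} (hA : Odd (Nat.card A)) :
    Nat.card A = 1 ∨ (Nat.card A = 3 ∧ 4 * Nat.card {x : V // ∀ s ∈ A, s x = x} = Nat.card V) ∨
      Nonempty (V ≃* Multiplicative (ZMod (2 ^ 2) × ZMod (2 ^ 2))) := by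
  let _ : CommGroup V := { ‹Group V› with mul_comm := hab }
  rcases sq_case (V := V) hV hcard hne hA with h | h | ⟨h1, h2, h3⟩
  · exact Or.inl h
  · exact Or.inr (Or.inl h)
  · exact Or.inr (Or.inr (iso_of_sq h1 h2 h3))

omit [Finite V] in
theorem eq_one_of_three {A : Subgroup (MulAut V)} (h3 : Nat.card A = 3)
    (h1 : Nat.card {x : V // ∀ s ∈ A, s x = x} = 1) :
    ∀ α ∈ A, ∀ x : V, x ≠ 1 → α x = x → α = 1 := by
  intro α hα x hx hαx
  by_contra hne
  have hp : Fact (Nat.Prime 3) := ⟨Nat.prime_three⟩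
  have hle : Subgroup.zpowers α ≤ A := Subgroup.zpowers_le.2 hα
  have hfin : Finite A := Nat.finite_of_card_ne_zero (by rw [h3]; norm_num)
  have h4 : Subgroup.zpowers α = A := by
    have h5 : orderOf (⟨α, hα⟩ : A) = 3 := by
      have h6 : orderOf (⟨α, hα⟩ : A) ∣ 3 := h3 ▸ orderOf_dvd_natCard _
      rcases (Nat.dvd_prime Nat.prime_three).1 h6 with h7 | h7
      · exact absurd (congrArg Subtype.val (orderOf_eq_one_iff.1 h7)) hne
      · exact h7
    refine Subgroup.eq_of_le_of_card_ge hle ?_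
    rw [h3, Nat.card_zpowers, ← Subgroup.orderOf_coe] at *
    exact h5.ge
  have hfx : ∀ s ∈ A, s x = x := by
    intro s hs
    rw [← h4] at hs
    obtain ⟨n, rfl⟩ := hs
    have h5 : α ∈ MulAction.stabilizer (MulAut V) x := hαx
    exact (MulAction.stabilizer (MulAut V) x).zpow_mem h5 n
  have h5 := (Nat.card_eq_one_iff_unique.1 h1).1
  exact hx (congrArg Subtype.val (h5.elim ⟨x, hfx⟩ ⟨1, fun s _ => map_one s⟩))

end group

variable {G : Type u} [Group G]

section

variable [Finite G] {p : ℕ} [Fact p.Prime] {M : Ideal AlgInt} (hM : IsPModular p M)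
  {B : Set (IrrCharacter G)} {a : BrauerPairIdx G}
  (hmax : IsMaximalBrauerPair p M B a.1 a.2) (hab : ∀ x ∈ a.1, ∀ y ∈ a.1, x * y = y * x)

include hM hmax hab

/-- Freeness in terms of `autG a`. -/
theorem free_of_autG (h : ∀ α ∈ autG a, ∀ x : a.1, x ≠ 1 → α x = x → α = 1) : Free a := by
  have := Fintype.ofFinite G
  have := Cfsg.Agent.Blocks.Local.isPrime_of_isPModular hM
  intro t ht x hx hx1 htx
  obtain ⟨α, hα, hαt⟩ := exists_autG hM hmax hab (t := t) ht
  have h1 := h α hα ⟨x, hx⟩ (fun h => hx1 (congrArg Subtype.val h)) (Subtype.ext (by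
    rw [hαt]
    exact htx))
  rw [Subgroup.mem_centralizer_iff]
  intro y hy
  have h2 := hαt ⟨y, hy⟩
  rw [h1] at h2
  have h3 : y = t * y * t⁻¹ := h2
  calc y * t = t * y * t⁻¹ * t := by rw [← h3]
    _ = t * y := by group

theorem formBd_of_autG (hne : a.1 ≠ ⊥)
    (h : ∀ α ∈ autG a, ∀ x : a.1, x ≠ 1 → α x = x → α = 1) : FormBd p B (Nat.card a.1) :=
  formBd_of_free hM hmax hab (free_of_autG hM hmax hab h) hne

/-- The fixed points. -/
theorem card_fix : Nat.card {w : G // w ∈ a.1 ∧ ∀ t ∈ stab a, t * w * t⁻¹ = w} =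
    Nat.card {x : a.1 // ∀ s ∈ autG a, s x = x} := by
  have := Fintype.ofFinite G
  have := Cfsg.Agent.Blocks.Local.isPrime_of_isPModular hM
  refine Nat.card_congr
      { toFun := fun w => ⟨⟨w.1, w.2.1⟩, fun s hs => ?_⟩
        invFun := fun x => ⟨x.1, x.1.2, fun t ht => ?_⟩
        left_inv := fun _ => rfl
        right_inv := fun _ => rfl }
  · obtain ⟨t, ht, hst⟩ := (mem_autG hM hmax hab).1 hs
    apply Subtype.ext
    rw [hst]
    exact w.2.2 t ht
  · obtain ⟨α, hα, h⟩ := exists_autG hM hmax hab ht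
    rw [← h, x.2 α hα]

theorem relIndex_eq : (Subgroup.centralizer (a.1 : Set G)).relIndex (stab a) =
    Nat.card (autG a) := by
  have := Fintype.ofFinite G
  have := Cfsg.Agent.Blocks.Local.isPrime_of_isPModular hM
  exact (card_autG hM hmax hab).symm

theorem form_of_one (hne : a.1 ≠ ⊥) (h1 : Nat.card (autG a) = 1) :
    FormBd p B (Nat.card a.1) := by
  refine formBd_of_autG hM hmax hab hne fun α hα x _ _ => ?_
  rw [Subgroup.card_eq_one] at h1
  rw [h1, Subgroup.mem_bot] at hα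
  exact hα

theorem odd_autG : ¬ p ∣ Nat.card (autG a) := by
  have := Fintype.ofFinite G
  have := Cfsg.Agent.Blocks.Local.isPrime_of_isPModular hM
  exact not_dvd_card_autG hM hmax hab

/-- Trivial inertial quotient: rank one. -/
theorem rank_of_one (h1 : Nat.card (autG a) = 1) : blockRank p B = 1 := by
  have := Fintype.ofFinite G
  have := Cfsg.Agent.Blocks.Local.isPrime_of_isPModular hM
  refine rank_one hM hmax hab fun t ht x hx => ?_
  have h2 := relIndex_eq hM hmax hab
  rw [h1, Subgroup.relIndex_eq_one] at h2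
  have h3 := Subgroup.mem_centralizer_iff.1 (h2 ht) x hx
  rw [← h3]
  group

end

section two

variable [Finite G] {M : Ideal AlgInt} (hM : IsPModular 2 M)
  {B : Set (IrrCharacter G)} {a : BrauerPairIdx G}
  (hmax : IsMaximalBrauerPair 2 M B a.1 a.2) (hab : ∀ x ∈ a.1, ∀ y ∈ a.1, x * y = y * x)

include hM hmax hab

theorem rank_of_three (h3 : Nat.card (autG a) = 3)
    (h4 : 4 * Nat.card {x : a.1 // ∀ s ∈ autG a, s x = x} = Nat.card a.1) :
    blockRank 2 B ≤ 3 := by
  have hp2 : Fact (Nat.Prime 2) := ⟨Nat.prime_two⟩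
  have := Fintype.ofFinite G
  have := Cfsg.Agent.Blocks.Local.isPrime_of_isPModular hM
  refine rank_le_three_of_three hM hmax hab ((relIndex_eq hM hmax hab).trans h3) ?_
  rw [card_fix hM hmax hab, h4]

/-- Inertial index three. -/
theorem local_of_three (hcard : Nat.card a.1 ≤ 16) (h3 : Nat.card (autG a) = 3) :
    blockRank 2 B ≤ 3 ∨ FormBd 2 B (Nat.card a.1) := by
  have hp2 : Fact (Nat.Prime 2) := ⟨Nat.prime_two⟩
  rcases fix_group (fun x y => Subtype.ext (hab x x.2 y y.2)) hmax.1.1.1 hcard h3 with h | ⟨h16, h1⟩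
  · exact Or.inl (rank_of_three hM hmax hab h3 h)
  · refine Or.inr (formBd_of_autG hM hmax hab ?_ (eq_one_of_three h3 h1))
    intro h
    rw [h, Subgroup.card_bot] at h16
    omega

/-- Abelian defect group of order at most `16`, not elementary: rank at most three. -/
theorem rank_le_three_of_sq (hcard : Nat.card a.1 ≤ 16) (hne : ∃ x ∈ a.1, x * x ≠ 1) :
    blockRank 2 B ≤ 3 := by
  have hp2 : Fact (Nat.Prime 2) := ⟨Nat.prime_two⟩
  have := Fintype.ofFinite G
  have := Cfsg.Agent.Blocks.Local.isPrime_of_isPModular hM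
  have hA : Odd (Nat.card (autG a)) := by
    rw [← Nat.not_even_iff_odd, even_iff_two_dvd]
    exact odd_autG hM hmax hab
  obtain ⟨x, hx, hxx⟩ := hne
  rcases sq_group (fun x y => Subtype.ext (hab x x.2 y y.2)) hmax.1.1.1 hcard
    ⟨⟨x, hx⟩, fun h => hxx (congrArg Subtype.val h)⟩ hA with h | ⟨h3, h4⟩ | h
  · rw [rank_of_one hM hmax hab h]
    norm_num
  · exact rank_of_three hM hmax hab h3 h4
  · have hD := Cfsg.Agent.H644.isDefectGroup_of_isMaximalBrauerPair hM hmax
    rcases Cfsg.Agent.S4552.result M hM B hmax.1.2.1 a.1 hD 2 le_rfl h with h | h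
    · rw [h.1]; norm_num
    · exact h.1.le

end two

end Cfsg.Agent.H624.AbRank
end

-- part: H624/Asm
section
/-!
# Brauer's bound for defect groups with a central cyclic subgroup of index at most `16`: frame

* `Situation`, `exists_situation`: the major subsection of a central element `x` of the defect
  group `D`, and its block modulo `⟨x⟩`;
* `Situation.card_le_of_form`, `Situation.card_le_of_rank`, `Situation.not_isCyclic`.
-/

set_option autoImplicit false
set_option linter.unusedSectionVars false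

open Cfsg
open scoped ComplexConjugate

namespace Cfsg.Agent.H624.Asm

open Cfsg.Agent.Blocks.Local Cfsg.Agent.Characters
open Cfsg.Agent.H644.CentralQuot Cfsg.Agent.H658 Cfsg.Agent.H616.Form
open Cfsg.Agent.H617.StarAut (autG)

universe u

section frame

variable {G : Type u} [Group G] [Finite G] {p : ℕ} [Fact p.Prime] {M : Ideal AlgInt}

/-- The major subsection attached to the central element `x` of `D` and its quotient modulo
`⟨x⟩`. -/
structure Situation (p : ℕ) (M : Ideal AlgInt) (B : Set (IrrCharacter G)) (D : Subgroup G) (x : G)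
    (f : Set (IrrCharacter (Subgroup.centralizer ({x} : Set G))))
    (U : Subgroup (Subgroup.centralizer ({x} : Set G))) [U.Normal] : Prop where
  mem : x ∈ D
  comm : ∀ w ∈ D, w * x = x * w
  ord : ∃ k, orderOf x = p ^ k
  ind : IsInducedBlock M (Subgroup.centralizer ({x} : Set G)) f B
  defect : blockDefect p f = blockDefect p B
  defB : IsDefectGroup p M B D
  def_f : IsDefectGroup p M f (D.subgroupOf (Subgroup.centralizer ({x} : Set G)))
  le_center : U ≤ Subgroup.center _
  pgroup : IsPGroup p U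
  card : Nat.card U = orderOf x
  le_def : U ≤ D.subgroupOf (Subgroup.centralizer ({x} : Set G))
  def_defl : IsDefectGroup p M (defl U f)
    ((D.subgroupOf (Subgroup.centralizer ({x} : Set G))).map (QuotientGroup.mk' U))

theorem exists_situation (hM : IsPModular p M) {B : Set (IrrCharacter G)} (hB : IsPBlock M B)
    {D : Subgroup G} (hBD : IsDefectGroup p M B D) {x : G} (hx : x ∈ D)
    (hxc : ∀ w ∈ D, w * x = x * w) :
    ∃ (f : Set (IrrCharacter (Subgroup.centralizer ({x} : Set G))))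
      (U : Subgroup (Subgroup.centralizer ({x} : Set G))) (_ : U.Normal),
      Situation p M B D x f U ∧
        U = Subgroup.zpowers ⟨x, Subgroup.mem_centralizer_singleton_iff.2 rfl⟩ := by
  have hDp : IsPGroup p D := Cfsg.Agent.Blocks.Basic.isPGroup_of_isDefectGroup hBD
  obtain ⟨b, -, hb⟩ := (S0973.result p M hM B hB D hBD).1
  obtain ⟨f, -, hf, hfD, hfd⟩ := exists_major hM hBD hx (fun w hw => (hxc w hw).symm) hb
  let x' : Subgroup.centralizer ({x} : Set G) := ⟨x, Subgroup.mem_centralizer_singleton_iff.2 rfl⟩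
  have hU : Subgroup.zpowers x' ≤ Subgroup.center _ := by
    rw [Subgroup.zpowers_le, Subgroup.mem_center_iff]
    intro g
    exact Subtype.ext (Subgroup.mem_centralizer_singleton_iff.1 g.2)
  have hUn : (Subgroup.zpowers x').Normal := by
    refine ⟨fun z hz g => ?_⟩
    rw [Subgroup.mem_center_iff.1 (hU hz) g, mul_assoc, mul_inv_cancel, mul_one]
    exact hz
  have hx'D : Subgroup.zpowers x' ≤ D.subgroupOf (Subgroup.centralizer ({x} : Set G)) := by
    rw [Subgroup.zpowers_le, Subgroup.mem_subgroupOf]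
    exact hx
  have hp : IsPGroup p (Subgroup.zpowers x') :=
    (hDp.comap_of_injective _ (Subgroup.subtype_injective _)).to_le hx'D
  refine ⟨f, Subgroup.zpowers x', hUn, ⟨hx, hxc, ?_, hf, hfd, hBD, hfD, hU, hp, ?_, hx'D, ?_⟩, rfl⟩
  · obtain ⟨k, hk⟩ := (IsPGroup.iff_orderOf.1 hDp) ⟨x, hx⟩
    exact ⟨k, by rw [← hk, Subgroup.orderOf_mk]⟩
  · rw [Nat.card_zpowers, ← Subgroup.orderOf_coe]
  · exact (isDefectGroup_defl hM hU hp hf.1 hfD).2

namespace Situation

variable {B : Set (IrrCharacter G)} {D : Subgroup G} {x : G}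
  {f : Set (IrrCharacter (Subgroup.centralizer ({x} : Set G)))}
  {U : Subgroup (Subgroup.centralizer ({x} : Set G))} [U.Normal]

omit [Finite G] [Fact p.Prime] in
theorem le_cent (h : Situation p M B D x f U) : D ≤ Subgroup.centralizer ({x} : Set G) :=
  fun w hw => Subgroup.mem_centralizer_singleton_iff.2 (h.comm w hw)

omit [Fact p.Prime] in
theorem card_mul (h : Situation p M B D x f U) :
    orderOf x * Nat.card ((D.subgroupOf (Subgroup.centralizer ({x} : Set G))).map
      (QuotientGroup.mk' U)) = Nat.card D := by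
  have h1 : Nat.card (D.subgroupOf (Subgroup.centralizer ({x} : Set G))) = Nat.card D :=
    Nat.card_congr (Subgroup.subgroupOfEquivOfLe h.le_cent).toEquiv
  rw [← h1, ← h.card]
  have h2 : (U.relIndex (D.subgroupOf (Subgroup.centralizer ({x} : Set G)))) =
      Nat.card ((D.subgroupOf (Subgroup.centralizer ({x} : Set G))).map
      (QuotientGroup.mk' U)) := by
    rw [← Subgroup.relIndex_ker, QuotientGroup.ker_mk']
  rw [← h2]
  have h3 := Subgroup.card_mul_index (U.subgroupOf
    (D.subgroupOf (Subgroup.centralizer ({x} : Set G))))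
  rw [Nat.card_congr (Subgroup.subgroupOfEquivOfLe h.le_def).toEquiv] at h3
  exact h3

theorem card_le_of_form (hM : IsPModular p M) (h : Situation p M B D x f U)
    (hF : FormBd p (defl U f) (Nat.card ((D.subgroupOf
      (Subgroup.centralizer ({x} : Set G))).map (QuotientGroup.mk' U)))) :
    Nat.card B ≤ Nat.card D := by
  have h1 := FormDefl.formBd_of_defl hM h.le_center h.pgroup h.ind.1 hF
  rw [h.card, h.card_mul] at h1
  exact card_le_of_formBd hM h.ord rfl h.ind h.defect h1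

omit [Fact p.Prime] in
theorem card_le_of_rank {M : Ideal AlgInt} {U : Subgroup (Subgroup.centralizer ({x} : Set G))}
    [U.Normal] (hM : IsPModular 2 M) (h : Situation 2 M B D x f U)
    (hl : blockRank 2 (defl U f) ≤ 3) : Nat.card B ≤ Nat.card D := by
  have hp : Fact (Nat.Prime 2) := ⟨Nat.prime_two⟩
  have := Fintype.ofFinite (Subgroup.centralizer ({x} : Set G))
  have h1 := blockRank_defl hM h.le_center h.pgroup h.ind.1
  rw [h1] at hl
  have h2 := Cfsg.Agent.S4540.result M hM B h.ind.2.1 D h.defB x h.mem h.comm f h.ind h.def_f hl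
  rw [Cfsg.Agent.S0908.result 2 M hM B h.ind.2.1 D h.defB]
  have h3 := h2.1.trans h2.2
  omega

/-- The quotient is not cyclic for nonabelian `D`. -/
theorem not_isCyclic (h : Situation p M B D x f U)
    (hna : ¬ ∀ a ∈ D, ∀ b ∈ D, a * b = b * a) :
    ¬ IsCyclic ((D.subgroupOf (Subgroup.centralizer ({x} : Set G))).map
      (QuotientGroup.mk' U)) := by
  intro hc
  apply hna
  obtain ⟨⟨g', hg'⟩, hg⟩ := hc.exists_generator
  obtain ⟨g, hgD, rfl⟩ := Subgroup.mem_map.1 hg'
  -- every element of `D` is `g ^ n * x ^ m`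
  have key : ∀ a ∈ D, ∃ n : ℤ, ∃ z : G, a = (g : G) ^ n * z ∧ ∀ w ∈ D, w * z = z * w := by
    intro a ha
    have haD : (⟨a, h.le_cent ha⟩ : Subgroup.centralizer ({x} : Set G)) ∈
        D.subgroupOf (Subgroup.centralizer ({x} : Set G)) := ha
    obtain ⟨n, hn⟩ := hg ⟨_, Subgroup.mem_map_of_mem (QuotientGroup.mk' U) haD⟩
    have hn' : (QuotientGroup.mk (g ^ n) : (Subgroup.centralizer ({x} : Set G)) ⧸ U) =
        QuotientGroup.mk ⟨a, h.le_cent ha⟩ := congrArg Subtype.val hn
    rw [QuotientGroup.eq] at hn'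
    refine ⟨n, (((g ^ n)⁻¹ * ⟨a, h.le_cent ha⟩ : Subgroup.centralizer ({x} : Set G)) : G), ?_, ?_⟩
    · push_cast
      group
    · intro w hw
      have h1 := Subgroup.mem_center_iff.1 (h.le_center hn') ⟨w, h.le_cent hw⟩
      exact congrArg Subtype.val h1
  intro a ha b hb
  obtain ⟨n, z, rfl, hz⟩ := key a ha
  obtain ⟨m, z', rfl, hz'⟩ := key b hb
  have hgn : ∀ k : ℤ, (g : G) ^ k ∈ D := fun k => D.zpow_mem hgD k
  have e1 := hz _ (hgn m)
  have e2 := hz' _ (hgn n)
  have hzD : z ∈ D := by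
    have := D.mul_mem (D.inv_mem (hgn n)) ha
    rwa [inv_mul_cancel_left] at this
  have e3 := hz' z hzD
  calc (g : G) ^ n * z * ((g : G) ^ m * z') = (g : G) ^ n * (z * (g : G) ^ m) * z' := by group
    _ = (g : G) ^ n * ((g : G) ^ m * z) * z' := by rw [e1]
    _ = (g : G) ^ (n + m) * (z * z') := by rw [zpow_add]; group
    _ = (g : G) ^ (m + n) * (z' * z) := by rw [e3, add_comm]
    _ = (g : G) ^ m * ((g : G) ^ n * z') * z := by rw [zpow_add]; group
    _ = (g : G) ^ m * (z' * (g : G) ^ n) * z := by rw [e2]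
    _ = (g : G) ^ m * z' * ((g : G) ^ n * z) := by group

end Situation

end frame

end Cfsg.Agent.H624.Asm
end
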