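import Mathlib
import Cfsg.Agent.H624.Asm
import Cfsg.Agent.H623.CommFormB
set_option linter.all false

/-!
# Brauer's bound for defect groups with a central cyclic subgroup of index at most `16`: cases
-/

set_option autoImplicit false
set_option linter.unusedSectionVars false

open Cfsg
open scoped ComplexConjugate

namespace Cfsg.Agent.H624.AsmMain

open Cfsg.Agent.Blocks.Local Cfsg.Agent.Characters
open Cfsg.Agent.H644.CentralQuot Cfsg.Agent.H658 Cfsg.Agent.H616.Form
open Cfsg.Agent.H617.StarAut (autG)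
open Cfsg.Agent.H645.FusCount (stab)
open Cfsg.Agent.H624.Asm Cfsg.Agent.H624.AbRank Cfsg.Agent.H652.DoubleCount
open Cfsg.Agent.H649

universe u

/-- Package E: elementary abelian of order `16`, inertial index `9`. -/
def PkgE (M : Ideal AlgInt) : Prop :=
  ∀ {G : Type u} [Group G] [Finite G] {B : Set (IrrCharacter G)} {a : BrauerPairIdx G},
    IsMaximalBrauerPair 2 M B a.1 a.2 → Nat.card a.1 = 16 → (∀ x ∈ a.1, x * x = 1) →
    (Subgroup.centralizer (a.1 : Set G)).relIndex (stab a) = 9 →
    FormBd 2 B 16 ∨ blockRank 2 B ≤ 3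

/-- Package F: nonabelian defect groups of order `8` and `16`. -/
def PkgF (M : Ideal AlgInt) : Prop :=
  ∀ {G : Type u} [Group G] [Finite G] {B : Set (IrrCharacter G)} {D : Subgroup G},
    IsPBlock M B → IsDefectGroup 2 M B D → (Nat.card D = 8 ∨ Nat.card D = 16) →
    (¬ ∀ x ∈ D, ∀ y ∈ D, x * y = y * x) → blockRank 2 B ≤ 3

/-- Package G: abelian defect groups, `p = 2`. -/
def PkgG (M : Ideal AlgInt) : Prop :=
  ∀ {G : Type u} [Group G] [Finite G] {B : Set (IrrCharacter G)} {D : Subgroup G},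
    IsPBlock M B → IsDefectGroup 2 M B D → (∀ x ∈ D, ∀ y ∈ D, x * y = y * x) →
    ∀ Z : Subgroup G, Z ≤ D → IsCyclic Z → Z.relIndex D ≤ 16 → Nat.card B ≤ Nat.card D

/-- Package H: abelian defect groups, `p = 3`. -/
def PkgH (M : Ideal AlgInt) : Prop :=
  ∀ {G : Type u} [Group G] [Finite G] {B : Set (IrrCharacter G)} {D : Subgroup G},
    IsPBlock M B → IsDefectGroup 3 M B D → (∀ x ∈ D, ∀ y ∈ D, x * y = y * x) →
    ∀ Z : Subgroup G, Z ≤ D → IsCyclic Z → Z.relIndex D = 9 → Nat.card B ≤ Nat.card D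

section two

variable {G : Type u} [Group G] [Finite G] {M : Ideal AlgInt}

/-- The case of a nonabelian defect group, `p = 2`. -/
theorem card_le_two (hM : IsPModular 2 M) (hE : PkgE.{u} M) (hF : PkgF.{u} M)
    {B : Set (IrrCharacter G)} {D : Subgroup G} {x : G}
    {f : Set (IrrCharacter (Subgroup.centralizer ({x} : Set G)))}
    {U : Subgroup (Subgroup.centralizer ({x} : Set G))} [U.Normal]
    (h : Situation 2 M B D x f U) (hcyc : IsCyclic U)
    (hna : ¬ ∀ a ∈ D, ∀ b ∈ D, a * b = b * a)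
    (hcard : Nat.card ((D.subgroupOf (Subgroup.centralizer ({x} : Set G))).map
      (QuotientGroup.mk' U)) ≤ 16) : Nat.card B ≤ Nat.card D := by
  classical
  have hp2 : Fact (Nat.Prime 2) := ⟨Nat.prime_two⟩
  have hMp := Cfsg.Agent.Blocks.Local.isPrime_of_isPModular hM
  have := Fintype.ofFinite (Subgroup.centralizer ({x} : Set G))
  have := Fintype.ofFinite (Subgroup.centralizer ({x} : Set G) ⧸ U)
  obtain ⟨H, hH⟩ : ∃ H, H = Subgroup.centralizer ({x} : Set G) := ⟨_, rfl⟩
  have hB' := isPBlock_defl hM h.le_center h.pgroup h.ind.1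
  have hna' : ¬ ∀ a ∈ D.subgroupOf (Subgroup.centralizer ({x} : Set G)),
      ∀ b ∈ D.subgroupOf (Subgroup.centralizer ({x} : Set G)), a * b = b * a := by
    intro hc
    apply hna
    intro a ha b hb
    exact congrArg Subtype.val (hc ⟨a, h.le_cent ha⟩ ha ⟨b, h.le_cent hb⟩ hb)
  have hnc := h.not_isCyclic hna
  obtain ⟨P, hP⟩ : ∃ P, P = (D.subgroupOf (Subgroup.centralizer ({x} : Set G))).map
      (QuotientGroup.mk' U) := ⟨_, rfl⟩
  have hform := h.card_le_of_form hM
  have hrank := h.card_le_of_rank hM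
  have hdefl := h.def_defl
  rw [← hP] at hcard hnc hform hdefl
  have hPp : IsPGroup 2 P := Cfsg.Agent.Blocks.Basic.isPGroup_of_isDefectGroup hdefl
  -- the order
  obtain ⟨k, hk⟩ := hPp.exists_card_eq
  have hk4 : k ≤ 4 := by
    by_contra hlt
    push Not at hlt
    have : 2 ^ 5 ≤ 2 ^ k := Nat.pow_le_pow_right (by norm_num) hlt
    omega
  by_cases hk2 : k ≤ 2
  · -- defect at most two
    refine hrank (Cfsg.Agent.H617.SmallRank.blockRank_le_three hM hB' ?_)
    have h1 := Cfsg.Agent.S0908.result 2 M hM _ hB' P hdefl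
    rw [hk] at h1
    exact (Nat.pow_right_injective (le_refl 2) h1).symm.le.trans hk2
  have h816 : Nat.card P = 8 ∨ Nat.card P = 16 := by
    have : k = 3 ∨ k = 4 := by omega
    rcases this with rfl | rfl
    · left; rw [hk]; norm_num
    · right; rw [hk]; norm_num
  by_cases hab : ∀ a ∈ P, ∀ b ∈ P, a * b = b * a
  · obtain ⟨e, he⟩ := Cfsg.Agent.H649.exists_pair_of_isDefectGroup hM hB' hdefl
    have hmax := Cfsg.Agent.H644.isMaximalBrauerPair_of_isDefectGroup hM he hdefl
    obtain ⟨a, ha⟩ : ∃ a : BrauerPairIdx (Subgroup.centralizer ({x} : Set G) ⧸ U), a = ⟨P, e⟩ :=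
      ⟨_, rfl⟩
    have hmax' : IsMaximalBrauerPair 2 M (defl U f) a.1 a.2 := by rw [ha]; exact hmax
    have haP : a.1 = P := by rw [ha]
    have hab' : ∀ c ∈ a.1, ∀ b ∈ a.1, c * b = b * c := by rw [haP]; exact hab
    have hcard' : Nat.card a.1 ≤ 16 := by rw [haP]; exact hcard
    rw [← haP] at hform
    by_cases hel : ∀ y ∈ a.1, y * y = 1
    · have hne : a.1 ≠ ⊥ := by
        intro hbot
        rw [← haP, hbot, Subgroup.card_bot] at h816
        omega
      have hDP : (D.subgroupOf (Subgroup.centralizer ({x} : Set G))).map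
          (QuotientGroup.mk' U) ≤ a.1 := by rw [haP, hP]
      have hidx : Nat.card (autG a) = 1 ∨ Nat.card (autG a) = 3 ∨
          (Nat.card a.1 = 16 ∧ Nat.card (autG a) = 5) ∨
          (Nat.card a.1 = 16 ∧ Nat.card (autG a) = 9) := by
        rw [← relIndex_eq hM hmax' hab']
        rcases h816 with h8 | h16
        · rw [← haP] at h8
          rcases Cfsg.Agent.H623.CommForm.stab_eight h.le_center hna' hDP hcyc hM hmax' h8 hel
            with h1 | h1
          · exact Or.inl h1
          · exact Or.inr (Or.inl h1)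
        · rw [← haP] at h16
          rcases Cfsg.Agent.H623.CommForm.stab_sixteen h.le_center hna' hDP hcyc hM hmax' h16 hel
            with h1 | h1 | h1 | h1
          · exact Or.inl h1
          · exact Or.inr (Or.inl h1)
          · exact Or.inr (Or.inr (Or.inl ⟨h16, h1⟩))
          · exact Or.inr (Or.inr (Or.inr ⟨h16, h1⟩))
      rcases hidx with h1 | h1 | ⟨h16, h1⟩ | ⟨h16, h1⟩
      · exact hform (form_of_one hM hmax' hab' hne h1)
      · rcases local_of_three hM hmax' hab' hcard' h1 with h2 | h2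
        · exact hrank h2
        · exact hform h2
      · refine hform ?_
        rw [h16]
        exact Cfsg.Agent.H639.formBd_of_five hM hmax' hab' h16
          ((relIndex_eq hM hmax' hab').trans h1)
      · rcases hE hmax' h16 hel ((relIndex_eq hM hmax' hab').trans h1) with h2 | h2
        · refine hform ?_
          rw [h16]
          exact h2
        · exact hrank h2
    · push Not at hel
      exact hrank (rank_le_three_of_sq hM hmax' hab' hcard' hel)
  · exact hrank (hF hB' hdefl h816 hab)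

end two

section odd

variable {G : Type u} [Group G] [Finite G] {p : ℕ} [Fact p.Prime] {M : Ideal AlgInt}

/-- The case of a cyclic quotient. -/
theorem card_le_cyclic (hM : IsPModular p M)
    {B : Set (IrrCharacter G)} {D : Subgroup G} {x : G}
    {f : Set (IrrCharacter (Subgroup.centralizer ({x} : Set G)))}
    {U : Subgroup (Subgroup.centralizer ({x} : Set G))} [U.Normal]
    (h : Situation p M B D x f U)
    (hc : IsCyclic ((D.subgroupOf (Subgroup.centralizer ({x} : Set G))).map
      (QuotientGroup.mk' U))) : Nat.card B ≤ Nat.card D := by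
  have := Fintype.ofFinite (Subgroup.centralizer ({x} : Set G))
  have hB' := isPBlock_defl hM h.le_center h.pgroup h.ind.1
  exact h.card_le_of_form hM (Cfsg.Agent.H639.formBd_of_isCyclic hM hB' h.def_defl hc)

/-- The case of a nonabelian defect group, `p = 3`, index `9`. -/
theorem card_le_three {M : Ideal AlgInt} (hM : IsPModular 3 M)
    {B : Set (IrrCharacter G)} {D : Subgroup G} {x : G}
    {f : Set (IrrCharacter (Subgroup.centralizer ({x} : Set G)))}
    {U : Subgroup (Subgroup.centralizer ({x} : Set G))} [U.Normal]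
    (h : Situation 3 M B D x f U)
    (hna : ¬ ∀ a ∈ D, ∀ b ∈ D, a * b = b * a)
    (hcard : Nat.card ((D.subgroupOf (Subgroup.centralizer ({x} : Set G))).map
      (QuotientGroup.mk' U)) = 9) : Nat.card B ≤ Nat.card D := by
  classical
  have hp3 : Fact (Nat.Prime 3) := ⟨Nat.prime_three⟩
  have hMp := Cfsg.Agent.Blocks.Local.isPrime_of_isPModular hM
  have := Fintype.ofFinite (Subgroup.centralizer ({x} : Set G))
  have := Fintype.ofFinite (Subgroup.centralizer ({x} : Set G) ⧸ U)
  have hB' := isPBlock_defl hM h.le_center h.pgroup h.ind.1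
  have hna' : ¬ ∀ a ∈ D.subgroupOf (Subgroup.centralizer ({x} : Set G)),
      ∀ b ∈ D.subgroupOf (Subgroup.centralizer ({x} : Set G)), a * b = b * a := by
    intro hc
    apply hna
    intro a ha b hb
    exact congrArg Subtype.val (hc ⟨a, h.le_cent ha⟩ ha ⟨b, h.le_cent hb⟩ hb)
  obtain ⟨P, hP⟩ : ∃ P, P = (D.subgroupOf (Subgroup.centralizer ({x} : Set G))).map
      (QuotientGroup.mk' U) := ⟨_, rfl⟩
  have hform := h.card_le_of_form hM
  have hdefl := h.def_defl
  rw [← hP] at hcard hform hdefl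
  obtain ⟨e, he⟩ := Cfsg.Agent.H649.exists_pair_of_isDefectGroup hM hB' hdefl
  have hmax := Cfsg.Agent.H644.isMaximalBrauerPair_of_isDefectGroup hM he hdefl
  obtain ⟨a, ha⟩ : ∃ a : BrauerPairIdx (Subgroup.centralizer ({x} : Set G) ⧸ U), a = ⟨P, e⟩ :=
      ⟨_, rfl⟩
  have hmax' : IsMaximalBrauerPair 3 M (defl U f) a.1 a.2 := by rw [ha]; exact hmax
  have haP : a.1 = P := by rw [ha]
  have h9 : Nat.card a.1 = 9 := by rw [haP]; exact hcard
  have hab' : ∀ c ∈ a.1, ∀ b ∈ a.1, c * b = b * c := by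
    intro c hc b hb
    have h1 := IsPGroup.isMulCommutative_of_card_eq_prime_sq (p := 3) (G := a.1) (by rw [h9]; norm_num)
    exact congrArg Subtype.val (h1.is_comm.comm ⟨c, hc⟩ ⟨b, hb⟩)
  have hne : a.1 ≠ ⊥ := by
    intro hbot
    rw [hbot, Subgroup.card_bot] at h9
    omega
  have hDP : (D.subgroupOf (Subgroup.centralizer ({x} : Set G))).map
          (QuotientGroup.mk' U) ≤ a.1 := by rw [haP, hP]
  rw [← haP] at hform
  refine hform (Cfsg.Agent.H639.formBd_of_free hM hmax' hab' ?_ hne)
  intro t ht v hv hv1 htv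
  exact Cfsg.Agent.H623.CommForm.stab_nine_free h.le_center hna' hDP hM hmax' h9 ht hv hv1 htv

end odd

/-- **The assembly**. -/
theorem main {G : Type u} [Group G] [Finite G] {p : ℕ} [Fact p.Prime] {M : Ideal AlgInt}
    (hM : IsPModular p M) (hE : p = 2 → PkgE.{u} M) (hF : p = 2 → PkgF.{u} M)
    (hG : p = 2 → PkgG.{u} M) (hH : p = 3 → PkgH.{u} M)
    {B : Set (IrrCharacter G)} (hB : IsPBlock M B) {D : Subgroup G} (hD : IsDefectGroup p M B D)
    {Z : Subgroup G} (hZD : Z ≤ D) (hZc : ∀ z ∈ Z, ∀ d ∈ D, z * d = d * z) (hcyc : IsCyclic Z)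
    (hidx : Z.relIndex D ≤ 16) : Nat.card B ≤ Nat.card D := by
  have hpp : p.Prime := Fact.out
  obtain ⟨⟨x, hx⟩, hxg⟩ := hcyc.exists_generator
  have hZ : Z = Subgroup.zpowers x := by
    ext y
    constructor
    · intro hy
      obtain ⟨n, hn⟩ := hxg ⟨y, hy⟩
      exact ⟨n, congrArg Subtype.val hn⟩
    · rintro ⟨n, rfl⟩
      exact Z.zpow_mem hx n
  obtain ⟨f, U, hU, h, hUx⟩ := exists_situation hM hB hD (hZD hx) fun w hw => (hZc x hx w hw).symm
  have hcard := h.card_mul
  have hrel : Nat.card Z * Z.relIndex D = Nat.card D := by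
    have := Subgroup.card_mul_index (Z.subgroupOf D)
    rwa [Nat.card_congr (Subgroup.subgroupOfEquivOfLe hZD).toEquiv] at this
  have hZx : Nat.card Z = orderOf x := by rw [hZ, Nat.card_zpowers]
  have hord : 0 < orderOf x := orderOf_pos x
  have hrelP : Z.relIndex D = Nat.card ((D.subgroupOf (Subgroup.centralizer ({x} : Set G))).map
      (QuotientGroup.mk' U)) := by
    rw [hZx, ← hcard] at hrel
    exact Nat.eq_of_mul_eq_mul_left hord hrel
  have hPp : IsPGroup p ((D.subgroupOf (Subgroup.centralizer ({x} : Set G))).map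
      (QuotientGroup.mk' U)) := Cfsg.Agent.Blocks.Basic.isPGroup_of_isDefectGroup h.def_defl
  by_cases hnc : IsCyclic ((D.subgroupOf (Subgroup.centralizer ({x} : Set G))).map
      (QuotientGroup.mk' U))
  · exact card_le_cyclic hM h hnc
  obtain ⟨k, hk⟩ := hPp.exists_card_eq
  have hk2 : 2 ≤ k := by
    by_contra hlt
    apply hnc
    have : k = 0 ∨ k = 1 := by omega
    rcases this with rfl | rfl
    · rw [pow_zero] at hk
      have := (Nat.card_eq_one_iff_unique.1 hk).1
      infer_instance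
    · rw [pow_one] at hk
      exact isCyclic_of_prime_card hk
  rw [hk] at hrelP
  have hcardP : p ^ k ≤ 16 := hrelP ▸ hidx
  have hp3 : p ≤ 3 := by
    by_contra hlt
    push Not at hlt
    have h1 : 4 ^ 2 ≤ p ^ k :=
      (Nat.pow_le_pow_left hlt 2).trans (Nat.pow_le_pow_right (by omega) hk2)
    have h2 : p = 4 := by
      by_contra hne
      have h3 : 5 ^ 2 ≤ p ^ k :=
        (Nat.pow_le_pow_left (by omega : 5 ≤ p) 2).trans (Nat.pow_le_pow_right (by omega) hk2)
      omega
    rw [h2] at hpp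
    exact absurd hpp (by norm_num)
  have hp2 := hpp.two_le
  have hp : p = 2 ∨ p = 3 := by omega
  rcases hp with rfl | rfl
  · by_cases hab : ∀ x ∈ D, ∀ y ∈ D, x * y = y * x
    · exact hG rfl hB hD hab Z hZD hcyc hidx
    · have hcU : IsCyclic U := by rw [hUx]; infer_instance
      exact card_le_two hM (hE rfl) (hF rfl) h hcU hab (by rw [hk]; exact hcardP)
  · have hk3 : k = 2 := by
      by_contra hne
      have : 3 ^ 3 ≤ 3 ^ k := Nat.pow_le_pow_right (by norm_num) (by omega)
      omega
    rw [hk3] at hk hrelP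
    by_cases hab : ∀ x ∈ D, ∀ y ∈ D, x * y = y * x
    · exact hH rfl hB hD hab Z hZD hcyc hrelP
    · exact card_le_three hM h hab hk

end Cfsg.Agent.H624.AsmMain
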