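import Mathlib
import Cfsg.Agent.H624.AsmMain
import Cfsg.Agent.H639.MaxClassSixteen
set_option linter.all false

/-!
# The case distinction over the nonabelian `2`-groups of order `8` and `16`

* `rank_le_three_of_eight`: nonabelian defect group of order `8`;
* `PkgF3`, `PkgF4`, `PkgF5`: centre of order `4`, split by `D ⧸ D'` and the existence of an
  elementary abelian subgroup of order `8`;
* `pkgF`: the assembly.
-/

set_option autoImplicit false

open Cfsg Subgroup

namespace Cfsg.Agent.H624.FCases

universe u

/-- Nonabelian defect groups of order `8`. -/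
theorem rank_le_three_of_eight {G : Type u} [Group G] [Finite G] {M : Ideal AlgInt}
    (hM : IsPModular 2 M) {B : Set (IrrCharacter G)} (hB : IsPBlock M B) {D : Subgroup G}
    (hD : IsDefectGroup 2 M B D) (h8 : Nat.card D = 8)
    (hna : ¬ ∀ x ∈ D, ∀ y ∈ D, x * y = y * x) : blockRank 2 B ≤ 3 := by
  have hp : Fact (Nat.Prime 2) := ⟨Nat.prime_two⟩
  have hP : IsPGroup 2 D := IsPGroup.of_card (n := 3) (by rw [h8]; norm_num)
  have hna' : ¬ ∀ a b : D, a * b = b * a := by
    intro h
    apply hna
    intro x hx y hy
    exact congrArg Subtype.val (h ⟨x, hx⟩ ⟨y, hy⟩)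
  have hidx : (commutator D).index ≤ 4 := by
    have hmul := (commutator D).card_mul_index
    rw [h8] at hmul
    have h1 : Nat.card (commutator D) ≠ 1 := by
      intro h
      apply hna'
      intro a b
      have h2 : commutator D = ⊥ := Subgroup.card_eq_one.1 h
      have h3 : a * b * a⁻¹ * b⁻¹ ∈ commutator D :=
        Subgroup.commutator_mem_commutator (mem_top a) (mem_top b)
      rw [h2, mem_bot] at h3
      calc a * b = a * b * a⁻¹ * b⁻¹ * (b * a) := by group
        _ = b * a := by rw [h3, one_mul]
    have hpos : 0 < Nat.card (commutator D) := Nat.card_pos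
    by_contra hlt
    push Not at hlt
    have : 2 * 5 ≤ Nat.card (commutator D) * (commutator D).index :=
      Nat.mul_le_mul (by omega) hlt
    omega
  rcases H772.cases_of_index_le hP hna' hidx with ⟨n, ⟨e⟩⟩ | h | ⟨n, ⟨e⟩⟩
  · have h1 : n = 4 := by
      have h2 := Nat.card_congr e.toEquiv
      rw [h8, DihedralGroup.nat_card] at h2
      omega
    subst h1
    exact (S4528.result M hM B hB D hD 3 (by norm_num) ⟨e⟩).2.2.1
  · exfalso
    obtain ⟨n, hn, hcard, -⟩ := h
    rw [h8] at hcard
    have : 2 ^ 4 ≤ 2 ^ (n + 1) := Nat.pow_le_pow_right (by norm_num) (by omega)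
    omega
  · have h1 : n = 2 := by
      have h2 := Nat.card_congr e.toEquiv
      rcases Nat.eq_zero_or_pos n with h0 | h0
      · subst h0
        exfalso
        have h3 : Finite (QuaternionGroup 0) := Finite.of_equiv D e.toEquiv
        have h4 : Infinite (QuaternionGroup 0) := by
          refine Infinite.of_injective (fun i : ℤ => (QuaternionGroup.a (i : ZMod (2 * 0)) :
            QuaternionGroup 0)) ?_
          intro i j hij
          have h5 := QuaternionGroup.a.inj hij
          change (Int.cast i : ℤ) = (Int.cast j : ℤ) at h5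
          simpa using h5
        exact not_finite (QuaternionGroup 0)
      · have : NeZero n := ⟨h0.ne'⟩
        rw [h8, Nat.card_eq_fintype_card, QuaternionGroup.card] at h2
        omega
    subst h1
    exact (S4530.result M hM B hB D hD 3 le_rfl ⟨e⟩).2.1

/-- Order `16`, centre of order `4`, `D ⧸ D'` not elementary abelian. -/
def PkgF3 (M : Ideal AlgInt) : Prop :=
  ∀ {G : Type u} [Group G] [Finite G] {B : Set (IrrCharacter G)} {D : Subgroup G},
    IsPBlock M B → IsDefectGroup 2 M B D → Nat.card D = 16 → Nat.card (center D) = 4 →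
    (∃ x : D, x * x ∉ commutator D) → blockRank 2 B ≤ 3

/-- Order `16`, centre of order `4`, `D ⧸ D'` elementary abelian, with an elementary abelian
subgroup of order `8`. -/
def PkgF4 (M : Ideal AlgInt) : Prop :=
  ∀ {G : Type u} [Group G] [Finite G] {B : Set (IrrCharacter G)} {D : Subgroup G},
    IsPBlock M B → IsDefectGroup 2 M B D → Nat.card D = 16 → Nat.card (center D) = 4 →
    (∀ x : D, x * x ∈ commutator D) → (∃ Q : Subgroup D, Nat.card Q = 8 ∧ ∀ x ∈ Q, x * x = 1) →
    blockRank 2 B ≤ 3

/-- Order `16`, centre of order `4`, `D ⧸ D'` elementary abelian, without elementary abelian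
subgroup of order `8`. -/
def PkgF5 (M : Ideal AlgInt) : Prop :=
  ∀ {G : Type u} [Group G] [Finite G] {B : Set (IrrCharacter G)} {D : Subgroup G},
    IsPBlock M B → IsDefectGroup 2 M B D → Nat.card D = 16 → Nat.card (center D) = 4 →
    (∀ x : D, x * x ∈ commutator D) →
    (¬ ∃ Q : Subgroup D, Nat.card Q = 8 ∧ ∀ x ∈ Q, x * x = 1) → blockRank 2 B ≤ 3

/-- **The case distinction**. -/
theorem pkgF {M : Ideal AlgInt} (hM : IsPModular 2 M) (h3 : PkgF3.{u} M) (h4 : PkgF4.{u} M)
    (h5 : PkgF5.{u} M) : AsmMain.PkgF.{u} M := by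
  intro G _ _ B D hB hD hcard hna
  have hp : Fact (Nat.Prime 2) := ⟨Nat.prime_two⟩
  rcases hcard with h8 | h16
  · exact rank_le_three_of_eight hM hB hD h8 hna
  have hP : IsPGroup 2 D := IsPGroup.of_card (n := 4) (by rw [h16]; norm_num)
  have hna' : ¬ ∀ a b : D, a * b = b * a := by
    intro h
    apply hna
    intro x hx y hy
    exact congrArg Subtype.val (h ⟨x, hx⟩ ⟨y, hy⟩)
  have hnt : Nontrivial D := by
    rw [← Finite.one_lt_card_iff_nontrivial, h16]
    norm_num
  have hZ : Nat.card (center D) = 2 ∨ Nat.card (center D) = 4 := by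
    obtain ⟨k, hk⟩ := (hP.to_subgroup (center D)).exists_card_eq
    have hdvd : Nat.card (center D) ∣ 16 := h16 ▸ Subgroup.card_subgroup_dvd_card _
    have hk4 : k ≤ 4 := by
      rw [hk, show (16 : ℕ) = 2 ^ 4 by norm_num] at hdvd
      exact (Nat.pow_dvd_pow_iff_le_right (le_refl 2)).1 hdvd
    have hk0 : k ≠ 0 := by
      rintro rfl
      rw [pow_zero] at hk
      have h1 := hP.center_nontrivial
      have h2 := Finite.one_lt_card_iff_nontrivial.2 h1
      omega
    have hmul := (center D).card_mul_index
    rw [h16, hk] at hmul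
    have hcyc : ¬ IsCyclic (D ⧸ center D) := by
      intro hc
      apply hna'
      intro a b
      exact (commutative_of_cyclic_center_quotient (QuotientGroup.mk' (center D))
        (by rw [QuotientGroup.ker_mk']) a b)
    have hk34 : k ≠ 3 ∧ k ≠ 4 := by
      constructor
      · rintro rfl
        apply hcyc
        have h1 : Nat.card (D ⧸ center D) = 2 := by
          change (center D).index = 2
          omega
        exact isCyclic_of_prime_card h1
      · rintro rfl
        apply hcyc
        have h1 : Nat.card (D ⧸ center D) = 1 := by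
          change (center D).index = 1
          omega
        have := (Nat.card_eq_one_iff_unique.1 h1).1
        infer_instance
    have : k = 1 ∨ k = 2 := by omega
    rcases this with rfl | rfl
    · left; rw [hk]; norm_num
    · right; rw [hk]; norm_num
  rcases hZ with h2 | hZ4
  · exact H639.MaxClass.rank_le_three_of_center_two hM hB hD h16 h2
  by_cases hx : ∃ x : D, x * x ∉ commutator D
  · exact h3 hB hD h16 hZ4 hx
  · push Not at hx
    by_cases hQ : ∃ Q : Subgroup D, Nat.card Q = 8 ∧ ∀ x ∈ Q, x * x = 1
    · exact h4 hB hD h16 hZ4 hx hQ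
    · exact h5 hB hD h16 hZ4 hx hQ

end Cfsg.Agent.H624.FCases
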