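import Cfsg.Agent.H623.CommForm
import Cfsg.Agent.H623.CommFormQ
import Cfsg.Agent.H623.CommFormB
import Cfsg.Agent.H624.AsmMain
import Cfsg.Agent.H639.MaxClassSixteen
import Cfsg.Agent.H624.FCases
import Cfsg.Agent.H602.Small.Fus
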